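import Groth.Agent.PBC51.Loop.Laurent
import Groth.Agent.CAlg7.GroupAlgUnits
import Mathlib.LinearAlgebra.Matrix.NonsingularInverse
import Mathlib.LinearAlgebra.Matrix.ToLinearEquiv
import Mathlib.Algebra.MonoidAlgebra.NoZeroDivisors

/-!
Birkhoff factorisation of invertible matrices of Laurent polynomials over a field.
-/

set_option autoImplicit false
set_option linter.unusedSectionVars false

namespace Groth.Agent.PBC51.Loop

universe u

open LaurentPolynomial Matrix

variable {R S : Type u} [CommRing R] [CommRing S] {ι : Type} [Fintype ι] [DecidableEq ι]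

/-- Invertible over the polynomials in `t`. -/
def PosInv (W : Matrix ι ι (L R)) : Prop :=
  ∃ V : Matrix ι ι (L R), (∀ i j, Low 0 (W i j)) ∧ (∀ i j, Low 0 (V i j)) ∧ W * V = 1 ∧ V * W = 1

/-- Invertible over the polynomials in `t⁻¹`. -/
def NegInv (W : Matrix ι ι (L R)) : Prop :=
  ∃ V : Matrix ι ι (L R), (∀ i j, High 0 (W i j)) ∧ (∀ i j, High 0 (V i j)) ∧ W * V = 1 ∧ V * W = 1

theorem low_matrix_mul {a b : ℤ} {M N : Matrix ι ι (L R)} (hM : ∀ i j, Low a (M i j))
    (hN : ∀ i j, Low b (N i j)) (i j : ι) : Low (a + b) ((M * N) i j) :=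
  Low.sum fun l _ => (hM i l).mul (hN l j)

theorem high_matrix_mul {a b : ℤ} {M N : Matrix ι ι (L R)} (hM : ∀ i j, High a (M i j))
    (hN : ∀ i j, High b (N i j)) (i j : ι) : High (a + b) ((M * N) i j) :=
  High.sum fun l _ => (hM i l).mul (hN l j)

theorem low_matrix_one (i j : ι) : Low 0 ((1 : Matrix ι ι (L R)) i j) := by
  rw [Matrix.one_apply]; split_ifs
  · simpa using low_C (R := R) 1
  · exact low_zero

theorem high_matrix_one (i j : ι) : High 0 ((1 : Matrix ι ι (L R)) i j) := by
  rw [Matrix.one_apply]; split_ifs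
  · simpa using high_C (R := R) 1
  · exact high_zero

theorem posInv_one : PosInv (1 : Matrix ι ι (L R)) :=
  ⟨1, low_matrix_one, low_matrix_one, one_mul 1, one_mul 1⟩

theorem PosInv.mul {W W' : Matrix ι ι (L R)} (h : PosInv W) (h' : PosInv W') : PosInv (W * W') := by
  obtain ⟨V, hW, hV, h1, h2⟩ := h
  obtain ⟨V', hW', hV', h1', h2'⟩ := h'
  refine ⟨V' * V, fun i j => by simpa using low_matrix_mul hW hW' i j,
    fun i j => by simpa using low_matrix_mul hV' hV i j, ?_, ?_⟩
  · rw [mul_assoc, ← mul_assoc W', h1', one_mul, h1]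
  · rw [mul_assoc, ← mul_assoc V, h2, one_mul, h2']

/-- A bound for finitely many Laurent polynomials. -/
theorem exists_high_bound (M : Matrix ι ι (L R)) : ∃ b : ℕ, ∀ i j, High (b : ℤ) (M i j) := by
  classical
  let s : Finset ℤ := Finset.univ.biUnion fun p : ι × ι => (M p.1 p.2).coeff.support
  refine ⟨(s.sup fun k => k.toNat), fun i j k hk => ?_⟩
  by_contra hne
  have hmem : k ∈ s := Finset.mem_biUnion.2 ⟨(i, j), Finset.mem_univ _, Finsupp.mem_support_iff.2 hne⟩
  have : k.toNat ≤ s.sup fun k => k.toNat := Finset.le_sup (f := fun k : ℤ => k.toNat) hmem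
  omega

/-- Constant coefficient on polynomials in `t⁻¹`. -/
noncomputable def negConst : negSub R →+* R where
  toFun x := x.1.coeff 0
  map_one' := by simp
  map_zero' := by simp
  map_add' x y := by simp
  map_mul' x y := by
    classical
    show (x.1 * y.1).coeff 0 = _
    rw [AddMonoidAlgebra.coeff_mul, Finsupp.sum]
    have hle : ∀ (z : negSub R) (i : ℤ), i ∈ z.1.coeff.support → i ≤ 0 := fun z i hi =>
      le_of_not_gt fun hlt => Finsupp.mem_support_iff.1 hi (z.2 i hlt)
    rw [Finset.sum_eq_single 0]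
    · rw [Finsupp.sum, Finset.sum_eq_single 0]
      · simp
      · exact fun j _ hj => if_neg (by simpa using hj)
      · exact fun h => by simp [Finsupp.notMem_support_iff.1 h]
    · intro i hi h0
      refine Finset.sum_eq_zero fun j hj => if_neg ?_
      have := hle x i hi
      have := hle y j hj
      omega
    · exact fun h => by simp [Finsupp.notMem_support_iff.1 h]

theorem negInv_of_det {k : Type u} [Field k] {U : Matrix ι ι (L k)} (hU : ∀ i j, High 0 (U i j))
    (hdet : IsUnit U.det) (h0 : (U.map fun x => x.coeff 0).det ≠ 0) : NegInv U := by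
  let U' : Matrix ι ι (negSub k) := fun i j => ⟨U i j, hU i j⟩
  have hUmap : (negSub k).subtype.mapMatrix U' = U := rfl
  have hd : U.det = (U'.det : L k) := by
    rw [← hUmap, ← RingHom.map_det]; rfl
  have hc : negConst U'.det = (U.map fun x => x.coeff 0).det := by
    rw [RingHom.map_det]; rfl
  obtain ⟨u, hu⟩ := hdet
  obtain ⟨a, m, ham⟩ := CAlg7.exists_unit_eq_single (A := k) (G := ℤ)
    (fun e he => IsIdempotentElem.iff_eq_zero_or_one.1 he) u
  have hm : m = 0 := by
    by_contra hm
    refine h0 (hc.symm.trans ?_)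
    show (U'.det : L k).coeff 0 = 0
    rw [← hd, ← hu, ham, AddMonoidAlgebra.coeff_single, Finsupp.single_apply, if_neg hm]
  have hval : (U'.det : L k) = C (a : k) := by rw [← hd, ← hu, ham, hm]; rfl
  let ainv : negSub k := ⟨C (↑a⁻¹ : k), high_C _⟩
  have h1 : ainv * U'.det = 1 := Subtype.ext (by
    show C (↑a⁻¹ : k) * (U'.det : L k) = 1
    rw [hval, ← map_mul, Units.inv_mul, map_one])
  let V' : Matrix ι ι (negSub k) := ainv • U'.adjugate
  have hUV : U' * V' = 1 := by rw [mul_smul_comm, mul_adjugate, smul_smul, h1, one_smul]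
  have hVU : V' * U' = 1 := by rw [smul_mul_assoc, adjugate_mul, smul_smul, h1, one_smul]
  refine ⟨(negSub k).subtype.mapMatrix V', hU, fun i j => (V' i j).2, ?_, ?_⟩
  · rw [← hUmap, ← map_mul, hUV, map_one]
  · rw [← hUmap, ← map_mul, hVU, map_one]

/-- Birkhoff factorisation. -/
theorem birkhoff {k : Type u} [Field k] (G : Matrix ι ι (L k)) (hG : IsUnit G.det) :
    ∃ (W U : Matrix ι ι (L k)) (d : ι → ℤ),
      PosInv W ∧ NegInv U ∧ G * U = W * diagonal (fun i => (T (d i) : L k)) := by
  classical
  let H := G⁻¹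
  obtain ⟨M, hM⟩ := exists_high_bound G
  obtain ⟨M', hM'⟩ := exists_high_bound H
  let P : (Matrix ι ι (L k) × (ι → ℤ)) → Prop := fun p =>
    PosInv p.1 ∧ ∀ i j, High (p.2 j) ((H * p.1) i j)
  have hlow : ∀ p, P p → ∀ j, -(M : ℤ) ≤ p.2 j := by
    rintro ⟨W, d⟩ ⟨⟨V, hW, hV, hWV, hVW⟩, hHW⟩ j
    by_contra hj
    have hW0 : ∀ i, W i j = 0 := fun i => LaurentPolynomial.ext fun l => by
      have e : W = G * (H * W) := by rw [← mul_assoc, mul_nonsing_inv G hG, one_mul]
      rcases lt_or_ge l 0 with hl | hl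
      · simpa using hW i j l hl
      · have hh : High ((M : ℤ) + d j) (W i j) := by
          rw [e]
          exact High.sum fun r _ => (hM i r).mul (hHW r j)
        have hj' : d j < -(M : ℤ) := not_le.1 hj
        simpa using hh l (by omega)
    have := congrFun (congrFun hVW j) j
    simp [Matrix.mul_apply, hW0] at this
  have hne : ∃ n : ℕ, ∃ p, P p ∧ ∑ j, (p.2 j + M).toNat = n :=
    ⟨_, (1, fun _ => (M' : ℤ)), ⟨posInv_one, fun i j => by simpa using hM' i j⟩, rfl⟩
  obtain ⟨⟨W, d⟩, ⟨hW, hHW⟩, hsum⟩ := Nat.find_spec hne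
  let Lc : Matrix ι ι k := Matrix.of fun i j => ((H * W) i j).coeff (d j)
  have hLc : Lc.det ≠ 0 := by
    intro hdet
    obtain ⟨c, hc0, hc⟩ := Matrix.exists_mulVec_eq_zero_iff.2 hdet
    have hS : (Finset.univ.filter fun j => c j ≠ 0).Nonempty := by
      obtain ⟨j, hj⟩ := Function.ne_iff.1 hc0
      exact ⟨j, by simpa using hj⟩
    obtain ⟨j₀, hj₀, hmax⟩ := Finset.exists_max_image _ d hS
    have hcj : c j₀ ≠ 0 := by simpa using hj₀
    have hmax' : ∀ j, c j ≠ 0 → d j ≤ d j₀ := fun j hj => hmax j (by simpa using hj)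
    let w : ι → L k := fun j => if j = j₀ then 0 else C (c j / c j₀) * T (d j₀ - d j)
    let N : Matrix ι ι (L k) := fun i j => if j = j₀ then w i else 0
    have hN0 : N * N = 0 := by
      refine Matrix.ext fun i j => ?_
      simp only [Matrix.mul_apply, Matrix.zero_apply]
      refine Finset.sum_eq_zero fun r _ => ?_
      by_cases hr : r = j₀ <;> simp [N, w, hr]
    have hNlow : ∀ i j, Low 0 (N i j) := fun i j => by
      by_cases hj : j = j₀
      · by_cases hi : i = j₀
        · simp [N, w, hj, hi, low_zero]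
        · by_cases hci : c i = 0
          · simp [N, w, hj, hi, hci, low_zero]
          · simp only [N, w, hj, if_true, if_neg hi]
            simpa using (low_C (c i / c j₀)).mul (low_T (R := k) (a := 0) (m := d j₀ - d i) (by linarith [hmax' i hci]))
      · simp [N, hj, low_zero]
    have hE : PosInv (1 + N) := by
      refine ⟨1 - N, fun i j => (low_matrix_one i j).add (hNlow i j), fun i j => ?_, ?_, ?_⟩
      · show Low 0 ((1 : Matrix ι ι (L k)) i j - N i j)
        rw [sub_eq_add_neg]
        exact (low_matrix_one i j).add (hNlow i j).neg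
      · rw [mul_sub, mul_one, add_mul, one_mul, hN0]; abel
      · rw [sub_mul, one_mul, mul_add, mul_one, hN0]; abel
    have key : ∀ i, High (d j₀ - 1) ((H * (W * (1 + N))) i j₀) := by
      intro i
      have e : (H * (W * (1 + N))) i j₀ = ∑ j, (H * W) i j * (C (c j / c j₀) * T (d j₀ - d j)) := by
        rw [← mul_assoc, Matrix.mul_apply]
        refine Finset.sum_congr rfl fun j _ => congrArg _ ?_
        by_cases hj : j = j₀
        · subst hj; rw [Matrix.add_apply]; simp [N, w, div_self hcj]
        · rw [Matrix.add_apply]; simp [N, w, hj, Matrix.one_apply_ne hj]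
      have hterm : ∀ j, High (d j₀) ((H * W) i j * (C (c j / c j₀) * T (d j₀ - d j))) := fun j => by
        simpa using (hHW i j).mul ((high_C (c j / c j₀)).mul (high_T (R := k) (le_refl (d j₀ - d j))))
      intro l hl
      rcases eq_or_lt_of_le (show d j₀ ≤ l by omega) with rfl | hlt
      · rw [e, AddMonoidAlgebra.coeff_sum, Finsupp.finsetSum_apply]
        have hcoef : ∀ j, ((H * W) i j * (C (c j / c j₀) * T (d j₀ - d j))).coeff (d j₀) =
            Lc i j * (c j / c j₀) := fun j => by
          rw [← single_eq_C_mul_T, AddMonoidAlgebra.coeff_mul_single_eq_coeff_mul (m₂ := d j) (H := fun m' _ => by omega)]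
          rfl
        rw [Finset.sum_congr rfl fun j _ => hcoef j]
        simp only [div_eq_mul_inv, ← mul_assoc, ← Finset.sum_mul]
        rw [show ∑ j, Lc i j * c j = 0 from congrFun hc i, zero_mul]
      · rw [e]
        exact (High.sum fun j _ => hterm j) l hlt
    let d' := Function.update d j₀ (d j₀ - 1)
    have hP : P (W * (1 + N), d') := by
      refine ⟨hW.mul hE, fun i j => ?_⟩
      by_cases hj : j = j₀
      · subst hj; simpa [d'] using key i
      · have e : (H * (W * (1 + N))) i j = (H * W) i j := by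
          rw [← mul_assoc, mul_add, mul_one, Matrix.add_apply, Matrix.mul_apply (M := H * W) (N := N)]
          simp [N, hj]
        show High (d' j) _
        rw [e, show d' j = d j from Function.update_of_ne hj _ _]
        exact hHW i j
    have hlt : ∑ j, (d' j + M).toNat < ∑ j, (d j + M).toNat := by
      refine Finset.sum_lt_sum (fun j _ => ?_) ⟨j₀, Finset.mem_univ _, ?_⟩
      · by_cases hj : j = j₀
        · subst hj; simp [d']
        · simp [d', hj]
      · have := hlow _ hP j₀
        simp [d'] at this ⊢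
        omega
    have hlt' : ∑ j, (d' j + M).toNat < Nat.find hne := lt_of_lt_of_eq hlt hsum
    exact Nat.find_min hne hlt' ⟨_, hP, rfl⟩
  obtain ⟨V, hW1, hV, hWV, hVW⟩ := hW
  let U : Matrix ι ι (L k) := H * W * diagonal (fun i => (T (-d i) : L k))
  have hU : ∀ i j, High 0 (U i j) := fun i j => by
    simp only [U, Matrix.mul_diagonal]
    simpa using (hHW i j).mul (high_T (R := k) (le_refl (-d j)))
  have hUc : (U.map fun x => x.coeff 0) = Lc := by
    ext i j
    simp only [U, Matrix.map_apply, Matrix.mul_diagonal]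
    rw [show (T (-d j) : L k) = AddMonoidAlgebra.single (-d j) 1 from rfl,
      AddMonoidAlgebra.coeff_mul_single_eq_coeff_mul (m₂ := d j) (H := fun m' _ => by omega), mul_one]
    rfl
  have hunit : IsUnit U.det := by
    simp only [U, det_mul]
    refine ((isUnit_nonsing_inv_det G hG).mul (isUnit_det_of_right_inverse hWV)).mul ?_
    rw [det_diagonal]
    exact IsUnit.prod_univ_iff.2 fun i => isUnit_T _
  refine ⟨W, U, fun i => -d i, ⟨V, hW1, hV, hWV, hVW⟩, negInv_of_det hU hunit (hUc.symm ▸ hLc), ?_⟩
  simp only [U, H, ← mul_assoc, mul_nonsing_inv G hG, one_mul]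

end Groth.Agent.PBC51.Loop
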