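import Groth.Agent.PBC51.Loop.Chart
import Mathlib.RingTheory.AdjoinRoot

/-!
Copies of the curve, twisted by an idempotent: scaled power bases and their lattices.
-/

set_option autoImplicit false
set_option linter.unusedSectionVars false

namespace Groth.Agent.PBC51.Loop

universe u

open LaurentPolynomial Matrix Polynomial

variable {R : Type u} [CommRing R] {n D : ℕ} (P : Polynomial (L R))

/-- The curve. -/
abbrev Curve : Type u := AdjoinRoot P

/-- The scaled root. -/
noncomputable def scaledRoot (s : ℤ) : Curve P := algebraMap (L R) (Curve P) (LaurentPolynomial.T s) * AdjoinRoot.root P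

theorem pow_coord_mem {B : Type u} [CommRing B] [Algebra (L R) B] (E : (Fin D → L R) ≃ₗ[L R] B)
    (W : Subring (L R)) (x : B) (hE : ∀ i : Fin D, E (Pi.single i 1) = x ^ (i : ℕ))
    (hD : ∀ i, E.symm (x ^ D) i ∈ W) : ∀ k i, E.symm (x ^ k) i ∈ W := by
  intro k
  induction k using Nat.strong_induction_on with
  | _ k ih =>
    intro i
    rcases lt_or_ge k D with hk | hk
    · rw [show x ^ k = E (Pi.single (⟨k, hk⟩ : Fin D) 1) from (hE ⟨k, hk⟩).symm, E.symm_apply_apply,
        Pi.single_apply]
      split_ifs
      · exact W.one_mem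
      · exact W.zero_mem
    · rcases eq_or_lt_of_le hk with rfl | hk'
      · exact hD i
      · obtain ⟨k, rfl⟩ : ∃ j, k = j + 1 := ⟨k - 1, by omega⟩
        have hx : x ^ k = ∑ j, E.symm (x ^ k) j • x ^ (j : ℕ) := by
          conv_lhs => rw [← E.apply_symm_apply (x ^ k), pi_eq_sum_univ' (E.symm (x ^ k)), map_sum]
          exact Finset.sum_congr rfl fun j _ => by rw [← hE, ← map_smul]
        rw [pow_succ, hx, Finset.sum_mul, map_sum, Finset.sum_apply]
        refine W.sum_mem fun j _ => ?_
        rw [smul_mul_assoc, ← pow_succ, map_smul, Pi.smul_apply, smul_eq_mul]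
        exact W.mul_mem (ih k (by omega) j) (ih (j + 1) (by omega) i)

variable {P} (hP : P.Monic) (hdeg : P.natDegree = D)

/-- The basis of scaled powers. -/
noncomputable def powBasis (s : ℤ) : Module.Basis (Fin D) (L R) (Curve P) :=
  ((AdjoinRoot.powerBasis' hP).basis.reindex (finCongr ((AdjoinRoot.powerBasis'_dim hP).trans hdeg))).unitsSMul
    fun i : Fin D => (isUnit_T (R := R) (s * (i : ℕ))).unit

theorem powBasis_apply (s : ℤ) (i : Fin D) : powBasis hP hdeg s i = scaledRoot P s ^ (i : ℕ) := by
  rw [powBasis, Module.Basis.unitsSMul_apply, Module.Basis.reindex_apply, PowerBasis.basis_eq_pow, Units.smul_def,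
    Algebra.smul_def]
  simp only [IsUnit.unit_spec, AdjoinRoot.powerBasis'_gen, scaledRoot, mul_pow, ← map_pow, LaurentPolynomial.T_pow]
  congr 2
  · rw [mul_comm]

/-- Coordinates in scaled powers. -/
noncomputable def powEquiv (s : ℤ) : (Fin D → L R) ≃ₗ[L R] Curve P := (powBasis hP hdeg s).equivFun.symm

theorem powEquiv_single (s : ℤ) (i : Fin D) :
    powEquiv hP hdeg s (Pi.single i 1) = scaledRoot P s ^ (i : ℕ) := by
  rw [← powBasis_apply hP hdeg, powEquiv, LinearEquiv.symm_apply_eq]
  funext j
  rw [Module.Basis.equivFun_self, Pi.single_apply]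
  simp only [eq_comm]

theorem powEquiv_coord_pow (s : ℤ) (W : Subring (L R))
    (hW : ∀ i, i < D → LaurentPolynomial.T (s * ((D : ℤ) - i)) * P.coeff i ∈ W) :
    ∀ k i, (powEquiv hP hdeg s).symm (scaledRoot P s ^ k) i ∈ W := by
  refine pow_coord_mem _ W _ (powEquiv_single hP hdeg s) ?_
  let E := powEquiv hP hdeg s
  have h0 : Polynomial.aeval (AdjoinRoot.root P) P = 0 := by
    rw [AdjoinRoot.aeval_eq, AdjoinRoot.mk_self]
  rw [Polynomial.aeval_eq_sum_range' (n := D + 1) (by omega), Finset.sum_range_succ,
    show P.coeff D = 1 from hdeg ▸ hP.coeff_natDegree, one_smul, add_comm, add_eq_zero_iff_eq_neg] at h0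
  have h1 : scaledRoot P s ^ D =
      E (fun i : Fin D => -(LaurentPolynomial.T (s * ((D : ℤ) - (i : ℕ))) * P.coeff (i : ℕ))) := by
    rw [pi_eq_sum_univ' (fun i : Fin D => -(LaurentPolynomial.T (s * ((D : ℤ) - (i : ℕ))) * P.coeff (i : ℕ))),
      map_sum]
    simp only [map_smul, E, powEquiv_single]
    rw [scaledRoot, mul_pow, ← map_pow, LaurentPolynomial.T_pow, h0, mul_neg, Finset.mul_sum,
      ← Finset.sum_neg_distrib, Finset.sum_range]
    refine Finset.sum_congr rfl fun i _ => ?_
    simp only [Algebra.smul_def, mul_pow, ← map_pow, LaurentPolynomial.T_pow, map_neg, map_mul]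
    rw [show s * ((D : ℤ) - (i : ℕ)) = (D : ℕ) * s + -((i : ℕ) * s) by ring, LaurentPolynomial.T_add, map_mul]
    have : algebraMap (L R) (Curve P) (LaurentPolynomial.T (-((i : ℕ) * s : ℤ))) *
        algebraMap (L R) (Curve P) (LaurentPolynomial.T ((i : ℕ) * s : ℤ)) = 1 := by
      rw [← map_mul, ← LaurentPolynomial.T_add, neg_add_cancel, LaurentPolynomial.T_zero, map_one]
    linear_combination (algebraMap (L R) (Curve P) (LaurentPolynomial.T ((D : ℕ) * s : ℤ)) *
      algebraMap (L R) (Curve P) (P.coeff i) * AdjoinRoot.root P ^ (i : ℕ)) * this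
  intro i
  rw [h1, E.symm_apply_apply]
  exact W.neg_mem (hW i i.2)

variable (n)

/-- The sum of copies of the curve with scaled bases. -/
noncomputable def copiesEquiv (s : ℤ) : (Fin n × Fin D → L R) ≃ₗ[L R] (Fin n → Curve P) :=
  (LinearEquiv.curry (L R) (L R) (Fin n) (Fin D)).trans (LinearEquiv.piCongrRight fun _ => powEquiv hP hdeg s)

variable {n}

theorem copiesEquiv_single (s : ℤ) (p : Fin n × Fin D) :
    copiesEquiv n hP hdeg s (Pi.single p 1) = Pi.single p.1 (scaledRoot P s ^ (p.2 : ℕ)) := by
  funext a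
  show powEquiv hP hdeg s (fun i => Pi.single (M := fun _ => L R) p 1 (a, i)) = _
  by_cases ha : a = p.1
  · subst ha
    rw [Pi.single_eq_same, ← powEquiv_single hP hdeg s p.2]
    congr 1
    funext i
    simp [Pi.single_apply, Prod.ext_iff]
  · rw [Pi.single_eq_of_ne ha]
    rw [show (fun i => Pi.single (M := fun _ => L R) p 1 (a, i)) = (0 : Fin D → L R) from
      funext fun i => by simp [Prod.ext_iff, ha]]
    exact map_zero _

/-- Lattices of scaled bases are rings. -/
theorem copiesEquiv_mul_mem (s : ℤ) (W : Subring (L R))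
    (hW : ∀ i, i < D → LaurentPolynomial.T (s * ((D : ℤ) - i)) * P.coeff i ∈ W)
    {a b : Fin n × Fin D → L R} (ha : ∀ p, a p ∈ W) (hb : ∀ p, b p ∈ W) (p : Fin n × Fin D) :
    (copiesEquiv n hP hdeg s).symm (copiesEquiv n hP hdeg s a * copiesEquiv n hP hdeg s b) p ∈ W := by
  let E := powEquiv hP hdeg s
  show E.symm (E (fun i => a (p.1, i)) * E (fun i => b (p.1, i))) p.2 ∈ W
  rw [pi_eq_sum_univ' (fun i => a (p.1, i)), pi_eq_sum_univ' (fun i => b (p.1, i))]
  simp only [map_sum, map_smul, E, powEquiv_single, Finset.sum_mul_sum, smul_mul_smul_comm, ← pow_add,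
    Finset.sum_apply, Pi.smul_apply, smul_eq_mul]
  exact W.sum_mem fun i _ => W.sum_mem fun j _ =>
    W.mul_mem (W.mul_mem (ha _) (hb _)) (powEquiv_coord_pow hP hdeg s W hW _ _)

theorem copiesEquiv_one_mem (s : ℤ) (W : Subring (L R))
    (hW : ∀ i, i < D → LaurentPolynomial.T (s * ((D : ℤ) - i)) * P.coeff i ∈ W) (p : Fin n × Fin D) :
    (copiesEquiv n hP hdeg s).symm 1 p ∈ W := by
  have := powEquiv_coord_pow hP hdeg s W hW 0 p.2
  rwa [pow_zero] at this

theorem copiesEquiv_root_mem (s : ℤ) (W : Subring (L R))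
    (hW : ∀ i, i < D → LaurentPolynomial.T (s * ((D : ℤ) - i)) * P.coeff i ∈ W) (p : Fin n × Fin D) :
    (copiesEquiv n hP hdeg s).symm
      ((LaurentPolynomial.T s : L R) • fun _ => AdjoinRoot.root P) p ∈ W := by
  have := powEquiv_coord_pow hP hdeg s W hW 1 p.2
  rw [pow_one, scaledRoot, ← Algebra.smul_def] at this
  exact this

/-- The twist of copies along an idempotent. -/
noncomputable def twistEquiv {ε : Curve P} (hε : IsIdempotentElem ε) :
    (Fin n → Curve P) ≃ₐ[L R] (Fin n → Curve P) :=
  AlgEquiv.ofAlgHom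
    (AlgHom.pi fun a =>
      ({ toFun := fun y => ε * y (finRotate n a) + (1 - ε) * y a
         map_one' := by simp
         map_mul' := fun y z => by
           simp only [Pi.mul_apply]
           have : ε * ε = ε := hε
           linear_combination -(y (finRotate n a) * z (finRotate n a) + y a * z a -
             y (finRotate n a) * z a - y a * z (finRotate n a)) * this
         map_zero' := by simp
         map_add' := fun y z => by simp only [Pi.add_apply]; ring
         commutes' := fun r => by simp only [Pi.algebraMap_apply]; ring } : (Fin n → Curve P) →ₐ[L R] Curve P))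
    (AlgHom.pi fun b =>
      ({ toFun := fun y => ε * y ((finRotate n).symm b) + (1 - ε) * y b
         map_one' := by simp
         map_mul' := fun y z => by
           simp only [Pi.mul_apply]
           have : ε * ε = ε := hε
           linear_combination -(y ((finRotate n).symm b) * z ((finRotate n).symm b) + y b * z b -
             y ((finRotate n).symm b) * z b - y b * z ((finRotate n).symm b)) * this
         map_zero' := by simp
         map_add' := fun y z => by simp only [Pi.add_apply]; ring
         commutes' := fun r => by simp only [Pi.algebraMap_apply]; ring } : (Fin n → Curve P) →ₐ[L R] Curve P))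
    (AlgHom.ext fun y => funext fun a => by
      have : ε * ε = ε := hε
      simp only [AlgHom.comp_apply, AlgHom.pi_apply, AlgHom.coe_mk, RingHom.coe_mk, MonoidHom.coe_mk, OneHom.coe_mk,
        AlgHom.id_apply, Equiv.symm_apply_apply]
      linear_combination (2 * y a - y (finRotate n a) - y ((finRotate n).symm a)) * this)
    (AlgHom.ext fun y => funext fun a => by
      have : ε * ε = ε := hε
      simp only [AlgHom.comp_apply, AlgHom.pi_apply, AlgHom.coe_mk, RingHom.coe_mk, MonoidHom.coe_mk, OneHom.coe_mk,
        AlgHom.id_apply, Equiv.apply_symm_apply]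
      linear_combination (2 * y a - y (finRotate n a) - y ((finRotate n).symm a)) * this)

theorem twistEquiv_apply {ε : Curve P} (hε : IsIdempotentElem ε) (y : Fin n → Curve P) (a : Fin n) :
    twistEquiv hε y a = ε * y (finRotate n a) + (1 - ε) * y a := rfl

theorem twistEquiv_single {ε : Curve P} (hε : IsIdempotentElem ε) (b : Fin n) (c : Curve P) :
    twistEquiv hε (Pi.single b c) =
      fun a => ε * Pi.single (M := fun _ => Curve P) ((finRotate n).symm b) c a + (1 - ε) * Pi.single (M := fun _ => Curve P) b c a := by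
  funext a
  rw [twistEquiv_apply]
  simp only [Pi.single_apply]
  congr 2
  exact if_congr (Equiv.eq_symm_apply (finRotate n)).symm rfl rfl

end Groth.Agent.PBC51.Loop
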