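import Groth.Agent.PBC51.Loop.Point
import Mathlib.RingTheory.Idempotents
import Mathlib.Logic.Equiv.Fin.Rotate

/-!
The two charts of a solution and frames splitting it into copies of the curve.
-/

set_option autoImplicit false
set_option linter.unusedSectionVars false

namespace Groth.Agent.PBC51.Loop

universe u

open LaurentPolynomial Matrix

variable {A₀ : Type u} [CommRing A₀] {Q : Par A₀} {R R' : Type u} [CommRing R] [CommRing R']
  [Algebra A₀ R] [Algebra A₀ R'] {v : Q.Var → R} (h : Q.Valid v)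

/-- The root on the first chart. -/
noncomputable def Par.Valid.X0 : h.tab.Alg := algebraMap (L R) h.tab.Alg (T (Q.β : ℤ)) * h.z

/-- The root on the second chart. -/
noncomputable def Par.Valid.X1 : h.tab.Alg := algebraMap (L R) h.tab.Alg (T (-(Q.α : ℤ))) * h.z

theorem Par.Valid.coord_X0 : h.tab.coord h.X0 = Q.x0 v := funext fun k => by
  rw [Par.Valid.X0, ← Algebra.smul_def, map_smul]
  show T (Q.β : ℤ) * (T (-(Q.β : ℤ)) * Q.x0 v k) = _
  rw [← mul_assoc, ← T_add, add_neg_cancel, T_zero, one_mul]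

theorem Par.Valid.coord_X1 : Q.TI v *ᵥ h.tab.coord h.X1 = Q.x1 v := by
  have h3 : Q.TT v *ᵥ Q.x1 v = h.tab.coord h.X1 := funext fun k => by
    rw [Par.Valid.X1, ← Algebra.smul_def, map_smul]
    refine (sub_eq_zero.1 (h (.t3 k))).trans ?_
    show _ = T (-(Q.α : ℤ)) * (T (-(Q.β : ℤ)) * Q.x0 v k)
    rw [← mul_assoc, ← T_add, neg_add]
  rw [← h3, Matrix.mulVec_mulVec, Par.TI_mul_TT, Matrix.one_mulVec]

theorem Par.Valid.coord_mul' (a b : Q.Ix → L R) :
    h.tab.coord (h.tab.vec a * h.tab.vec b) = Q.rmul v a b := rfl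

theorem Par.Valid.coord_one1 : Q.TI v *ᵥ h.tab.coord 1 = Q.u1 v := by
  have h2 : Q.TT v *ᵥ Q.u1 v = h.tab.coord 1 := funext fun k => sub_eq_zero.1 (h (.t2 k))
  rw [← h2, Matrix.mulVec_mulVec, Par.TI_mul_TT, Matrix.one_mulVec]

include h in
theorem Par.Valid.chart1_mul (a b : Q.Ix → L R) :
    Q.rmul v (Q.TT v *ᵥ a) (Q.TT v *ᵥ b) = Q.TT v *ᵥ fun k => ∑ i, ∑ j, a i * b j * Q.c1 v i j k := by
  have hv : ∀ a : Q.Ix → L R, h.tab.vec (Q.TT v *ᵥ a) = ∑ i, a i • h.tab.vec ((Q.TT v).col i) := fun a => by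
    simp only [Matrix.mulVec_eq_sum, map_sum, map_smul, op_smul_eq_smul]
    rfl
  have h1 : ∀ i j, h.tab.coord (h.tab.vec ((Q.TT v).col i) * h.tab.vec ((Q.TT v).col j)) =
      Q.TT v *ᵥ Q.c1 v i j := fun i j => funext fun k =>
    (sub_eq_zero.1 (h (.t1 i j k))).symm
  rw [← Par.Valid.coord_mul' h, hv, hv, Finset.sum_mul_sum]
  simp only [smul_mul_smul_comm, map_sum, map_smul, h1, ← Matrix.mulVec_smul, ← Matrix.mulVec_sum]
  refine congrArg _ (funext fun k => ?_)
  simp [Finset.sum_apply]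

/-- The first chart. -/
def Par.Valid.C0 : Subring h.tab.Alg where
  carrier := {x | ∀ k, Low 0 (h.tab.coord x k)}
  mul_mem' := fun {a b} ha hb k => Low.sum fun i _ => Low.sum fun j _ => by
    exact (((ha i).mul (hb j)).mul (show Low 0 (Q.c0 v i j _) from low_serPos _)).mono (by omega)
  one_mem' := fun k => low_serPos _
  add_mem' := fun {a b} ha hb k => by rw [map_add]; exact (ha k).add (hb k)
  zero_mem' := fun k => by rw [map_zero]; exact low_zero
  neg_mem' := fun {a} ha k => by rw [map_neg]; exact (ha k).neg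

/-- The second chart. -/
def Par.Valid.C1 : Subring h.tab.Alg where
  carrier := {x | ∀ k, High 0 ((Q.TI v *ᵥ h.tab.coord x) k)}
  mul_mem' := fun {a b} ha hb k => by
    have e : h.tab.coord (a * b) =
        Q.rmul v (Q.TT v *ᵥ (Q.TI v *ᵥ h.tab.coord a)) (Q.TT v *ᵥ (Q.TI v *ᵥ h.tab.coord b)) := by
      simp only [Matrix.mulVec_mulVec, Par.TT_mul_TI, Matrix.one_mulVec]
      rfl
    rw [e, Par.Valid.chart1_mul h, Matrix.mulVec_mulVec, Par.TI_mul_TT, Matrix.one_mulVec]
    refine High.sum fun i _ => High.sum fun j _ => ?_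
    exact (((ha i).mul (hb j)).mul (show High 0 (Q.c1 v i j _) from high_serNeg _)).mono (by omega)
  one_mem' := fun k => by rw [Par.Valid.coord_one1]; exact high_serNeg _
  add_mem' := fun {a b} ha hb k => by rw [map_add, Matrix.mulVec_add]; exact (ha k).add (hb k)
  zero_mem' := fun k => by rw [map_zero, Matrix.mulVec_zero]; exact high_zero
  neg_mem' := fun {a} ha k => by rw [map_neg, Matrix.mulVec_neg]; exact (ha k).neg

theorem Par.Valid.mem_C0 {x : h.tab.Alg} : x ∈ h.C0 ↔ ∀ k, Low 0 (h.tab.coord x k) := Iff.rfl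
theorem Par.Valid.mem_C1 {x : h.tab.Alg} : x ∈ h.C1 ↔ ∀ k, High 0 ((Q.TI v *ᵥ h.tab.coord x) k) := Iff.rfl

theorem Par.Valid.X0_mem : h.X0 ∈ h.C0 := fun k => by rw [Par.Valid.coord_X0]; exact low_serPos _
theorem Par.Valid.X1_mem : h.X1 ∈ h.C1 := fun k => by rw [Par.Valid.coord_X1]; exact high_serNeg _

section Red

variable (g : R →ₐ[A₀] R')

/-- Reduction of the algebra of a solution. -/
noncomputable def Par.Valid.red : h.tab.Alg →+* (h.map g).tab.Alg where
  toFun x := (h.map g).tab.vec fun k => Lmap g.toRingHom (h.tab.coord x k)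
  map_one' := Tab.ext _ fun k => Par.Lmap_u0 v g.toRingHom k
  map_mul' x y := Tab.ext _ fun k => by
    show Lmap g.toRingHom (h.tab.coord (x * y) k) = _
    simp only [Tab.coord_mul, map_sum, map_mul]
    refine Finset.sum_congr rfl fun i _ => Finset.sum_congr rfl fun j _ => congrArg _ ?_
    exact Par.Lmap_c0 v g.toRingHom i j k
  map_zero' := Tab.ext _ fun k => map_zero (Lmap g.toRingHom)
  map_add' x y := Tab.ext _ fun k => map_add (Lmap g.toRingHom) (h.tab.coord x k) (h.tab.coord y k)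

theorem Par.Valid.coord_red (x : h.tab.Alg) :
    (h.map g).tab.coord (h.red g x) = fun k => Lmap g.toRingHom (h.tab.coord x k) := rfl

theorem Par.Valid.coord1_red (x : h.tab.Alg) (k : Q.Ix) :
    (Q.TI (g ∘ v) *ᵥ (h.map g).tab.coord (h.red g x)) k = Lmap g.toRingHom ((Q.TI v *ᵥ h.tab.coord x) k) := by
  simp only [Matrix.mulVec, dotProduct, map_sum, map_mul, Par.Lmap_TI, Par.Valid.coord_red]
  rfl

theorem Par.Valid.red_algebraMap (a : L R) :
    h.red g (algebraMap (L R) h.tab.Alg a) = algebraMap (L R') (h.map g).tab.Alg (Lmap g.toRingHom a) :=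
  Tab.ext _ fun k => by
    rw [Par.Valid.coord_red, Tab.coord_algebraMap]
    show Lmap g.toRingHom _ = _
    rw [Tab.coord_algebraMap, map_mul]
    exact congrArg _ (Par.Lmap_u0 v g.toRingHom k)

theorem Par.Valid.red_z : h.red g h.z = (h.map g).z := Tab.ext _ fun k => by
  rw [Par.Valid.coord_red]
  show Lmap g.toRingHom (T (-(Q.β : ℤ)) * Q.x0 v k) = T (-(Q.β : ℤ)) * Q.x0 (g ∘ v) k
  rw [map_mul, Lmap_T, Par.Lmap_x0]
  rfl

theorem Par.Valid.red_X0 : h.red g h.X0 = (h.map g).X0 := by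
  rw [Par.Valid.X0, map_mul, Par.Valid.red_algebraMap, Par.Valid.red_z, Lmap_T]; rfl

theorem Par.Valid.red_X1 : h.red g h.X1 = (h.map g).X1 := by
  rw [Par.Valid.X1, map_mul, Par.Valid.red_algebraMap, Par.Valid.red_z, Lmap_T]; rfl

theorem Par.Valid.red_mem_C0 {x : h.tab.Alg} (hx : x ∈ h.C0) : h.red g x ∈ (h.map g).C0 :=
  fun k => (hx k).map _

theorem Par.Valid.red_mem_C1 {x : h.tab.Alg} (hx : x ∈ h.C1) : h.red g x ∈ (h.map g).C1 :=
  fun k => by rw [Par.Valid.coord1_red]; exact (hx k).map _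

theorem Par.Valid.isNilpotent_of_red (hg : ∀ r, g r = 0 → IsNilpotent r) {x : h.tab.Alg}
    (hx : h.red g x = 0) : IsNilpotent x := by
  rw [h.tab.eq_sum_e x]
  refine isNilpotent_sum fun i _ => ?_
  rw [Algebra.smul_def]
  refine (Commute.all _ _).isNilpotent_mul_right ((isNilpotent_of_Lmap (f := g.toRingHom) hg ?_).map _)
  have := congrFun (congrArg (h.map g).tab.coord hx) i
  rw [map_zero] at this
  exact this

theorem Par.Valid.exists_red_lift0 (hg : Function.Surjective g) {y : (h.map g).tab.Alg} (hy : y ∈ (h.map g).C0) :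
    ∃ x ∈ h.C0, h.red g x = y := by
  choose a ha hl _ using fun k => exists_Lmap_lift (f := g.toRingHom) hg ((h.map g).tab.coord y k)
  exact ⟨h.tab.vec a, fun k => hl k _ (hy k), Tab.ext _ ha⟩

theorem Par.Valid.exists_red_lift1 (hg : Function.Surjective g) {y : (h.map g).tab.Alg} (hy : y ∈ (h.map g).C1) :
    ∃ x ∈ h.C1, h.red g x = y := by
  choose a ha _ hh using fun k =>
    exists_Lmap_lift (f := g.toRingHom) hg ((Q.TI (g ∘ v) *ᵥ (h.map g).tab.coord y) k)
  refine ⟨h.tab.vec (Q.TT v *ᵥ a), fun k => ?_, Tab.ext _ fun k => ?_⟩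
  · rw [LinearEquiv.apply_symm_apply, Matrix.mulVec_mulVec, Par.TI_mul_TT, Matrix.one_mulVec]
    exact hh k _ (hy k)
  · rw [Par.Valid.coord_red]
    simp only [LinearEquiv.apply_symm_apply]
    have e : (fun k => Lmap g.toRingHom ((Q.TT v *ᵥ a) k)) = Q.TT (g ∘ v) *ᵥ fun l => Lmap g.toRingHom (a l) := by
      funext k
      simp only [Matrix.mulVec, dotProduct, map_sum, map_mul, Par.Lmap_TT]
      rfl
    rw [congrFun e k, funext ha]
    show (Q.TT (g ∘ v) *ᵥ (Q.TI (g ∘ v) *ᵥ _)) k = _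
    rw [Matrix.mulVec_mulVec, Par.TT_mul_TI, Matrix.one_mulVec]

theorem Par.Valid.exists_red_lift (hg : Function.Surjective g) (y : (h.map g).tab.Alg) :
    ∃ x, h.red g x = y := by
  choose a ha _ _ using fun k => exists_Lmap_lift (f := g.toRingHom) hg ((h.map g).tab.coord y k)
  exact ⟨h.tab.vec a, Tab.ext _ ha⟩

end Red

/-- The matrix of a frame on the first chart. -/
noncomputable def Par.Valid.U0 (e : Fin Q.n → h.tab.Alg) : Matrix Q.Ix Q.Ix (L R) :=
  Matrix.of fun r p => h.tab.coord (e p.1 * h.X0 ^ (p.2 : ℕ)) r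

/-- The matrix of a frame on the second chart. -/
noncomputable def Par.Valid.U1 (f : Fin Q.n → h.tab.Alg) : Matrix Q.Ix Q.Ix (L R) :=
  Matrix.of fun r p => (Q.TI v *ᵥ h.tab.coord (f p.1 * h.X1 ^ (p.2 : ℕ))) r

/-- The twist of sheets. -/
noncomputable def Par.Valid.twist (ε : h.tab.Alg) (e : Fin Q.n → h.tab.Alg) (b : Fin Q.n) : h.tab.Alg :=
  ε * e ((finRotate Q.n).symm b) + (1 - ε) * e b

/-- A splitting of a solution into twisted copies of the curve. -/
structure Par.Valid.Frame where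
  ε : h.tab.Alg
  e : Fin Q.n → h.tab.Alg
  idem : IsIdempotentElem ε
  nil : IsNilpotent (ε - h.z)
  complete : CompleteOrthogonalIdempotents e
  mem0 : ∀ a, e a ∈ h.C0
  mem1 : ∀ b, h.twist ε e b ∈ h.C1
  inv0 : PosInv (h.U0 e)
  inv1 : NegInv (h.U1 (h.twist ε e))

theorem isIdempotentElem_mix {S : Type u} [CommRing S] {ε x y : S} (hε : IsIdempotentElem ε)
    (hx : IsIdempotentElem x) (hy : IsIdempotentElem y) : IsIdempotentElem (ε * x + (1 - ε) * y) := by
  unfold IsIdempotentElem at *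
  linear_combination (x * x + y * y - 2 * x * y) * hε + ε * hx + (1 - ε) * hy

end Groth.Agent.PBC51.Loop
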