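import Groth.Agent.PBC51.Loop.Split
import Mathlib.LinearAlgebra.Matrix.Charpoly.Coeff
import Mathlib.LinearAlgebra.Matrix.Charpoly.LinearMap
import Mathlib.RingTheory.Polynomial.Content

/-!
Integrality of the two charts of a solution and injectivity of the curve into it.
-/

set_option autoImplicit false
set_option linter.unusedSectionVars false

namespace Groth.Agent.PBC51.Loop

universe u

open LaurentPolynomial Matrix

variable {A : Type u} [CommRing A]

theorem exists_invert_toLaurent {x : L A} (h : High 0 x) :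
    ∃ p : Polynomial A, LaurentPolynomial.invert (Polynomial.toLaurent p) = x := by
  obtain ⟨p, hp⟩ := exists_toLaurent_of_low (x := LaurentPolynomial.invert x) (fun k hk => by
    rw [invert_apply]
    exact h _ (by omega))
  exact ⟨p, by rw [hp]; exact LaurentPolynomial.involutive_invert x⟩

variable {S : Type u} [CommRing S] {ι : Type} [Fintype ι] [DecidableEq ι]

/-- A monic polynomial annihilating a matrix of a subring. -/
theorem exists_monic_matrix (f : Polynomial A →+* L A) (M : Matrix ι ι (L A)) (hM : ∀ i j, M i j ∈ Set.range f) :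
    ∃ q : Polynomial (Polynomial A), q.Monic ∧ Polynomial.aeval M (q.map f) = 0 := by
  choose m hm using hM
  refine ⟨(Matrix.of m).charpoly, Matrix.charpoly_monic _, ?_⟩
  rw [← Matrix.charpoly_map, show (Matrix.of m).map f = M from Matrix.ext fun i j => hm i j]
  exact Matrix.aeval_self_charpoly M

variable {A₀ : Type u} [CommRing A₀] {Q : Par A₀} [Algebra A₀ A] {v : Q.Var → A} (h : Q.Valid v)

/-- The matrix of multiplication by an element. -/
noncomputable def Par.Valid.lmat (x : h.tab.Alg) : Matrix Q.Ix Q.Ix (L A) :=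
  Matrix.of fun k j => h.tab.coord (x * h.tab.e j) k

theorem Par.Valid.coord_lmat (x y : h.tab.Alg) : h.tab.coord (x * y) = h.lmat x *ᵥ h.tab.coord y := by
  conv_lhs => rw [h.tab.eq_sum_e y, Finset.mul_sum]
  simp only [mul_smul_comm, map_sum, map_smul, Matrix.mulVec_eq_sum, op_smul_eq_smul]
  rfl

theorem Par.Valid.coord_aeval (x : h.tab.Alg) (q : Polynomial (L A)) (y : h.tab.Alg) :
    h.tab.coord (Polynomial.aeval x q * y) = Polynomial.aeval (h.lmat x) q *ᵥ h.tab.coord y := by
  induction q using Polynomial.induction_on' generalizing y with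
  | add p q hp hq => rw [map_add, map_add, add_mul, map_add, hp, hq, Matrix.add_mulVec]
  | monomial k a =>
    induction k generalizing y with
    | zero =>
      rw [← Polynomial.C_mul_X_pow_eq_monomial, pow_zero, mul_one, Polynomial.aeval_C, Polynomial.aeval_C,
        ← Algebra.smul_def, map_smul, Algebra.algebraMap_eq_smul_one, Matrix.smul_mulVec, Matrix.one_mulVec]
    | succ k ih =>
      rw [← Polynomial.monomial_mul_X]
      simp only [map_mul, Polynomial.aeval_X]
      rw [mul_assoc, ih, h.coord_lmat, Matrix.mulVec_mulVec]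

/-- Elements of the first chart are integral over polynomials in `t`. -/
theorem Par.Valid.integral_C0 {x : h.tab.Alg} (hx : x ∈ h.C0) :
    ∃ q : Polynomial (Polynomial A), q.Monic ∧
      Polynomial.aeval x (q.map (Polynomial.toLaurent : Polynomial A →+* L A)) = 0 := by
  obtain ⟨q, hq, hq0⟩ := exists_monic_matrix (Polynomial.toLaurent : Polynomial A →+* L A) (h.lmat x) fun i j => by
    refine exists_toLaurent_of_low (h.C0.mul_mem hx (fun k => ?_) i)
    simp only [LinearEquiv.apply_symm_apply, Pi.single_apply]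
    split_ifs
    · simpa using low_C (R := A) 1
    · exact low_zero
  refine ⟨q, hq, h.tab.ext fun k => ?_⟩
  have h1 := h.coord_aeval x (q.map (Polynomial.toLaurent : Polynomial A →+* L A)) 1
  rw [mul_one, hq0, Matrix.zero_mulVec] at h1
  rw [h1, map_zero]

/-- Elements of the second chart are integral over polynomials in `t⁻¹`. -/
theorem Par.Valid.integral_C1 {x : h.tab.Alg} (hx : x ∈ h.C1) :
    ∃ q : Polynomial (Polynomial A), q.Monic ∧
      Polynomial.aeval x (q.map ((LaurentPolynomial.invert (R := A)).toRingEquiv.toRingHom.comp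
        (Polynomial.toLaurent : Polynomial A →+* L A))) = 0 := by
  obtain ⟨q, hq, hq0⟩ := exists_monic_matrix ((LaurentPolynomial.invert (R := A)).toRingEquiv.toRingHom.comp
        (Polynomial.toLaurent : Polynomial A →+* L A)) (Q.TI v * h.lmat x * Q.TT v) fun i j => by
    refine exists_invert_toLaurent ?_
    have hg : h.tab.vec ((Q.TT v).col j) ∈ h.C1 := fun k => by
      rw [LinearEquiv.apply_symm_apply, ← Matrix.mulVec_single_one, Matrix.mulVec_mulVec, Par.TI_mul_TT,
        Matrix.one_mulVec, Pi.single_apply]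
      split_ifs
      · simpa using high_C (R := A) 1
      · exact high_zero
    have h1 := h.C1.mul_mem hx hg i
    rw [h.coord_lmat, LinearEquiv.apply_symm_apply, Matrix.mulVec_mulVec, ← Matrix.mulVec_single_one,
      Matrix.mulVec_mulVec, Matrix.mulVec_single_one] at h1
    exact h1
  refine ⟨q, hq, h.tab.ext fun k => ?_⟩
  generalize q.map ((LaurentPolynomial.invert (R := A)).toRingEquiv.toRingHom.comp
    (Polynomial.toLaurent : Polynomial A →+* L A)) = P at hq0 ⊢
  have hconj : ∀ p : Polynomial (L A),
      Polynomial.aeval (Q.TI v * h.lmat x * Q.TT v) p = Q.TI v * Polynomial.aeval (h.lmat x) p * Q.TT v := by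
    intro p
    induction p using Polynomial.induction_on' with
    | add p q hp hq => rw [map_add, map_add, hp, hq, mul_add, add_mul]
    | monomial k a =>
      induction k with
      | zero =>
        rw [← Polynomial.C_mul_X_pow_eq_monomial, pow_zero, mul_one, Polynomial.aeval_C, Polynomial.aeval_C,
          ← Algebra.commutes, mul_assoc, Par.TI_mul_TT, mul_one]
      | succ k ih =>
        rw [← Polynomial.monomial_mul_X, map_mul, map_mul, Polynomial.aeval_X, Polynomial.aeval_X, ih]
        simp only [mul_assoc]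
        rw [← mul_assoc (Q.TT v) (Q.TI v), Par.TT_mul_TI, one_mul]
  have h2 : Polynomial.aeval (h.lmat x) P = 0 := by
    have := congrArg (fun M => Q.TT v * M * Q.TI v) (hconj P)
    simp only [hq0, mul_zero, zero_mul] at this
    rwa [← mul_assoc, ← mul_assoc, Par.TT_mul_TI, one_mul, mul_assoc, Par.TT_mul_TI, mul_one, eq_comm] at this
  have h1 := h.coord_aeval x P 1
  rw [mul_one, h2, Matrix.zero_mulVec] at h1
  rw [h1, map_zero]

/-- The curve injects into a framed solution. -/
theorem Par.Valid.aeval_z_injective [IsLocalRing A] [NeZero Q.n]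
    (h : Q.Valid v) (F : (h.map (IsScalarTower.toAlgHom A₀ A (IsLocalRing.ResidueField A))).Frame)
    {q : Polynomial (L A)} (hq : Polynomial.aeval h.z q = 0) :
    Q.P.map (Lmap (algebraMap A₀ A)) ∣ q := by
  classical
  let g := IsScalarTower.toAlgHom A₀ A (IsLocalRing.ResidueField A)
  have hg : Function.Surjective g := IsLocalRing.residue_surjective
  let P := Q.P.map (Lmap (algebraMap A₀ A))
  have hP : P.Monic := Q.monic.map _
  have hdeg : P.natDegree = Q.D := (Q.monic.natDegree_map _).trans Q.deg
  let r := q %ₘ P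
  have hr : Polynomial.aeval h.z r = 0 := by
    rw [← hq]
    conv_rhs => rw [← Polynomial.modByMonic_add_div q P]
    rw [map_add, map_mul, show Polynomial.aeval h.z P = 0 from h.root, zero_mul, add_zero]
  have hrdeg : r = 0 ∨ r.natDegree < Q.D := by
    rcases eq_or_ne r 0 with h0 | h0
    · exact Or.inl h0
    · exact Or.inr (hdeg ▸ Polynomial.natDegree_lt_natDegree h0 (Polynomial.degree_modByMonic_lt q hP))
  obtain ⟨W, -, hW, -, hWU⟩ := F.inv0
  choose Y hY hYl _ using fun (j : Fin Q.D) (p : Q.Ix) =>
    exists_Lmap_lift (f := g.toRingHom) hg (W (⟨0, Nat.pos_of_ne_zero (NeZero.ne Q.n)⟩, j) p)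
  let M : Matrix Q.Ix (Fin Q.D) (L A) := Matrix.of fun p i => h.tab.coord (h.X0 ^ (i : ℕ)) p
  let N : Matrix (Fin Q.D) (Fin Q.D) (L A) := Matrix.of Y * M
  let a0 : Fin Q.n := ⟨0, Nat.pos_of_ne_zero (NeZero.ne Q.n)⟩
  have hN : N.map (Lmap g.toRingHom) = 1 := by
    refine Matrix.ext fun j i => ?_
    simp only [N, M, Matrix.map_apply, Matrix.mul_apply, Matrix.of_apply, map_sum, map_mul, hY]
    have e1 : ∀ p, Lmap g.toRingHom (h.tab.coord (h.X0 ^ (i : ℕ)) p) =
        ∑ a, (h.map g).U0 F.e p (a, i) := fun p => by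
      have := congrFun (h.coord_red g (h.X0 ^ (i : ℕ))) p
      rw [← this, map_pow, h.red_X0 g]
      conv_lhs => rw [← one_mul ((h.map g).X0 ^ (i : ℕ)), ← F.complete.complete, Finset.sum_mul, map_sum,
        Finset.sum_apply]
      rfl
    simp only [e1, Finset.mul_sum]
    rw [Finset.sum_comm]
    have e2 : ∀ a, ∑ p, W (a0, j) p * (h.map g).U0 F.e p (a, i) =
        (1 : Matrix Q.Ix Q.Ix (L (IsLocalRing.ResidueField A))) (a0, j) (a, i) := fun a => by
      rw [← hWU, Matrix.mul_apply]
    refine (Finset.sum_congr rfl fun a _ => e2 a).trans ?_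
    rw [Matrix.one_apply, Finset.sum_eq_single a0 (fun a _ ha => ?_) (by simp)]
    · rw [Matrix.one_apply]; simp [Prod.ext_iff]
    · rw [Matrix.one_apply, if_neg fun e => ha (Prod.ext_iff.1 e).1.symm]
  have hNl : ∀ i j, N i j ∈ posSub A := fun i j => (posSub A).sum_mem fun p _ =>
    (posSub A).mul_mem (hYl i p 0 (hW _ p)) (h.C0.pow_mem h.X0_mem _ p)
  obtain ⟨f, hf⟩ : ∃ f : Polynomial A, Polynomial.toLaurent f = N.det := by
    refine exists_toLaurent_of_low ?_
    let N' : Matrix (Fin Q.D) (Fin Q.D) (posSub A) := fun i j => ⟨N i j, hNl i j⟩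
    have : N.det = ((posSub A).subtype N'.det) := by rw [RingHom.map_det]; rfl
    rw [this]
    exact N'.det.2
  have hf0 : IsUnit (f.coeff 0) := by
    have h1 : Lmap g.toRingHom N.det = 1 := by rw [RingHom.map_det, RingHom.mapMatrix_apply, hN, Matrix.det_one]
    have h2 := congrArg (fun x : L (IsLocalRing.ResidueField A) => x.coeff 0) h1
    rw [← hf] at h2
    have h4 : (Polynomial.toLaurent f).coeff ((0 : ℕ) : ℤ) = f.coeff 0 := by
      rw [LaurentPolynomial.coeff_toLaurent]
      exact Finsupp.mapDomain_apply (fun a b e => Int.ofNat_inj.1 e) _ 0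
    have h3 : g (f.coeff 0) = 1 := by
      rw [← h4]
      simpa [coeff_Lmap] using h2
    exact (IsLocalRing.residue_ne_zero_iff_isUnit _).1 (h3.trans_ne one_ne_zero)
  have hnzd : ∀ x : L A, N.det * x = 0 → x = 0 := by
    intro x hx
    obtain ⟨k, x', hx'⟩ := LaurentPolynomial.exists_T_pow x
    have h1 : f * x' = 0 := Polynomial.toLaurent_injective (by
      rw [map_mul, map_zero, hf, hx', ← mul_assoc, hx, zero_mul])
    have h2 : x' = 0 := by
      refine Polynomial.ext fun k => ?_
      rw [Polynomial.coeff_zero]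
      induction k using Nat.strong_induction_on with
      | _ k ih =>
        have h3 := congrArg (fun p => Polynomial.coeff p k) h1
        simp only [Polynomial.coeff_mul, Polynomial.coeff_zero] at h3
        rw [Finset.sum_eq_single (0, k) (fun b hb hne => ?_) (fun hb => absurd (by simp) hb)] at h3
        · exact hf0.mul_right_eq_zero.1 h3
        · have := Finset.HasAntidiagonal.mem_antidiagonal.1 hb
          rw [ih b.2 (by
            rcases Nat.eq_zero_or_pos b.1 with h0 | h0
            · exact absurd (Prod.ext h0 (by omega)) hne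
            · omega), mul_zero]
    rw [h2, map_zero] at hx'
    exact (isUnit_T (k : ℤ)).mul_left_eq_zero.1 hx'.symm
  rcases hrdeg with h0 | hlt
  · exact (Polynomial.modByMonic_eq_zero_iff_dvd hP).1 h0
  refine (Polynomial.modByMonic_eq_zero_iff_dvd hP).1 ?_
  let c : Fin Q.D → L A := fun i => r.coeff (i : ℕ) * T (-((i : ℕ) * Q.β : ℤ))
  have hMc : M *ᵥ c = 0 := by
    rw [Polynomial.aeval_eq_sum_range' hlt, Finset.sum_range] at hr
    funext p
    have h1 := congrFun (congrArg h.tab.coord hr) p
    rw [map_zero, map_sum, Finset.sum_apply] at h1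
    refine Eq.trans ?_ h1
    show ∑ i, M p i * c i = _
    refine Finset.sum_congr rfl fun i _ => ?_
    show h.tab.coord (h.X0 ^ (i : ℕ)) p * c i = _
    rw [Par.Valid.X0, mul_pow, ← map_pow, T_pow, ← Algebra.smul_def, map_smul, map_smul, Pi.smul_apply,
      Pi.smul_apply, smul_eq_mul, smul_eq_mul]
    simp only [c]
    have : (T ((i : ℕ) * Q.β : ℤ) : L A) * T (-((i : ℕ) * Q.β : ℤ)) = 1 := by
      rw [← T_add, add_neg_cancel, T_zero]
    linear_combination (r.coeff (i : ℕ) * h.tab.coord (h.z ^ (i : ℕ)) p) * this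
  have hc : c = 0 := by
    funext i
    refine hnzd _ ?_
    have h1 := congrArg (fun w => N.adjugate *ᵥ (Matrix.of Y *ᵥ w)) hMc
    simp only [Matrix.mulVec_zero, Matrix.mulVec_mulVec] at h1
    simp only [← show N = Matrix.of Y * M from rfl, Matrix.adjugate_mul, Matrix.smul_mulVec, Matrix.one_mulVec] at h1
    exact congrFun h1 i
  refine Polynomial.ext fun k => ?_
  rw [Polynomial.coeff_zero]
  rcases lt_or_ge k Q.D with hk | hk
  · exact (isUnit_T (-((k : ℕ) * Q.β : ℤ))).mul_left_eq_zero.1 (congrFun hc ⟨k, hk⟩)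
  · exact Polynomial.coeff_eq_zero_of_natDegree_lt (hlt.trans_le hk)

end Groth.Agent.PBC51.Loop
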