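import Groth.Agent.PBC51.Loop.Canon

/-!
Functoriality of frames and their lifting along nilpotent thickenings.
-/

set_option autoImplicit false
set_option linter.unusedSectionVars false

namespace Groth.Agent.PBC51.Loop

universe u

open LaurentPolynomial Matrix

theorem isUnit_of_map_of_nil {S S' : Type u} [CommRing S] [CommRing S'] (f : S →+* S')
    (hf : Function.Surjective f) (hnil : ∀ r, f r = 0 → IsNilpotent r) {x : S} (hx : IsUnit (f x)) : IsUnit x := by
  obtain ⟨u, hu⟩ := hx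
  obtain ⟨y, hy⟩ := hf ↑u⁻¹
  have h1 : IsNilpotent (x * y - 1) := hnil _ (by rw [map_sub, map_mul, ← hu, hy, Units.mul_inv, map_one, sub_self])
  have h2 : IsUnit (x * y - 1 + 1) := h1.isUnit_add_one
  rw [sub_add_cancel] at h2
  exact isUnit_of_mul_isUnit_left h2

variable {R R' : Type u} [CommRing R] [CommRing R'] {ι : Type} [Fintype ι] [DecidableEq ι]

/-- Invertibility over a subring from the image. -/
theorem exists_inv_of_map {W : Subring (L R)} {W' : Subring (L R')} (f : R →+* R')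
    (hmap : ∀ x ∈ W, Lmap f x ∈ W') (hlift : ∀ y ∈ W', ∃ x ∈ W, Lmap f x = y)
    (hnil : ∀ r, f r = 0 → IsNilpotent r) {U : Matrix ι ι (L R)} (hU : ∀ i j, U i j ∈ W)
    {V' : Matrix ι ι (L R')} (hV' : ∀ i j, V' i j ∈ W') (h1 : U.map (Lmap f) * V' = 1) :
    ∃ V : Matrix ι ι (L R), (∀ i j, V i j ∈ W) ∧ U * V = 1 ∧ V * U = 1 := by
  let φ : W →+* W' := ((Lmap f).restrict W W' hmap)
  let U₀ : Matrix ι ι W := fun i j => ⟨U i j, hU i j⟩
  have hφ : Function.Surjective φ := fun y => by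
    obtain ⟨x, hx, hxy⟩ := hlift y.1 y.2
    exact ⟨⟨x, hx⟩, Subtype.ext hxy⟩
  have hφn : ∀ r, φ r = 0 → IsNilpotent r := fun r hr => by
    obtain ⟨k, hk⟩ := isNilpotent_of_Lmap hnil (congrArg Subtype.val hr)
    exact ⟨k, Subtype.ext hk⟩
  have hunit : IsUnit (U₀.map φ) := by
    refine ⟨⟨U₀.map φ, fun i j => ⟨V' i j, hV' i j⟩, ?_, ?_⟩, rfl⟩
    · exact Matrix.map_injective (f := W'.subtype) Subtype.val_injective
        ((Matrix.map_mul).trans (h1.trans (Matrix.map_one _ (map_zero _) (map_one _)).symm))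
    · exact mul_eq_one_comm.1 (Matrix.map_injective (f := W'.subtype) Subtype.val_injective
        ((Matrix.map_mul).trans (h1.trans (Matrix.map_one _ (map_zero _) (map_one _)).symm)))
  have hd : IsUnit U₀.det := by
    refine isUnit_of_map_of_nil φ hφ hφn ?_
    rw [RingHom.map_det]
    exact (Matrix.isUnit_iff_isUnit_det _).1 hunit
  refine ⟨W.subtype.mapMatrix U₀⁻¹, fun i j => ((U₀⁻¹) i j).2, ?_, ?_⟩
  · rw [show U = W.subtype.mapMatrix U₀ from rfl, ← map_mul, Matrix.mul_nonsing_inv _ hd, map_one]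
  · rw [show U = W.subtype.mapMatrix U₀ from rfl, ← map_mul, Matrix.nonsing_inv_mul _ hd, map_one]

variable {A₀ : Type u} [CommRing A₀] {Q : Par A₀} [Algebra A₀ R] [Algebra A₀ R'] {v : Q.Var → R}
  (h : Q.Valid v) (g : R →ₐ[A₀] R')

theorem Par.Valid.red_twist (ε : h.tab.Alg) (e : Fin Q.n → h.tab.Alg) (b : Fin Q.n) :
    h.red g (h.twist ε e b) = (h.map g).twist (h.red g ε) (fun a => h.red g (e a)) b := by
  simp [Par.Valid.twist]

theorem Par.Valid.map_U0 (e : Fin Q.n → h.tab.Alg) :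
    (h.U0 e).map (Lmap g.toRingHom) = (h.map g).U0 fun a => h.red g (e a) := by
  ext r p : 1
  simp only [Matrix.map_apply, Par.Valid.U0, Matrix.of_apply]
  rw [← Par.Valid.red_X0 h g, ← map_pow, ← map_mul, Par.Valid.coord_red]

theorem Par.Valid.map_U1 (f : Fin Q.n → h.tab.Alg) :
    (h.U1 f).map (Lmap g.toRingHom) = (h.map g).U1 fun a => h.red g (f a) := by
  ext r p : 1
  simp only [Matrix.map_apply, Par.Valid.U1, Matrix.of_apply]
  rw [← Par.Valid.red_X1 h g, ← map_pow, ← map_mul, Par.Valid.coord1_red]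

theorem PosInv.map {U : Matrix ι ι (L R)} (f : R →+* R') (hU : PosInv U) : PosInv (U.map (Lmap f)) := by
  obtain ⟨V, h1, h2, h3, h4⟩ := hU
  refine ⟨V.map (Lmap f), fun i j => (h1 i j).map f, fun i j => (h2 i j).map f, ?_, ?_⟩ <;>
    simp [← Matrix.map_mul, h3, h4]

theorem NegInv.map {U : Matrix ι ι (L R)} (f : R →+* R') (hU : NegInv U) : NegInv (U.map (Lmap f)) := by
  obtain ⟨V, h1, h2, h3, h4⟩ := hU
  refine ⟨V.map (Lmap f), fun i j => (h1 i j).map f, fun i j => (h2 i j).map f, ?_, ?_⟩ <;>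
    simp [← Matrix.map_mul, h3, h4]

/-- Functoriality of frames. -/
noncomputable def Par.Valid.Frame.map (F : h.Frame) : (h.map g).Frame where
  ε := h.red g F.ε
  e a := h.red g (F.e a)
  idem := F.idem.map (h.red g)
  nil := by rw [← Par.Valid.red_z h g, ← map_sub]; exact F.nil.map (h.red g)
  complete := F.complete.map (h.red g)
  mem0 a := h.red_mem_C0 g (F.mem0 a)
  mem1 b := by rw [← Par.Valid.red_twist]; exact h.red_mem_C1 g (F.mem1 b)
  inv0 := by rw [← Par.Valid.map_U0]; exact F.inv0.map _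
  inv1 := by
    have := F.inv1.map g.toRingHom
    rw [Par.Valid.map_U1] at this
    simpa only [Par.Valid.red_twist] using this

/-- Frames lift along nilpotent thickenings. -/
theorem Par.Valid.exists_frame (hg : Function.Surjective g) (hnil : ∀ r, g r = 0 → IsNilpotent r)
    (F : (h.map g).Frame) : Nonempty h.Frame := by
  classical
  have hker : ∀ x ∈ RingHom.ker (h.red g), IsNilpotent x := fun x hx => h.isNilpotent_of_red g hnil hx
  obtain ⟨ε, hε, hεg⟩ := exists_isIdempotentElem_eq_of_ker_isNilpotent (h.red g) hker F.ε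
    (h.exists_red_lift g hg F.ε) F.idem
  let ρ0 : h.C0 →+* (h.map g).C0 := (h.red g).restrict h.C0 (h.map g).C0 fun x hx => h.red_mem_C0 g hx
  have hρ0 : ∀ x ∈ RingHom.ker ρ0, IsNilpotent x := fun x hx => by
    obtain ⟨k, hk⟩ := hker x.1 (congrArg Subtype.val hx)
    exact ⟨k, Subtype.ext hk⟩
  have he0 : CompleteOrthogonalIdempotents (fun a => (⟨F.e a, F.mem0 a⟩ : (h.map g).C0)) :=
    ⟨⟨fun a => Subtype.ext (F.complete.idem a), fun a b hab => Subtype.ext (F.complete.ortho hab)⟩,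
      Subtype.ext (by simpa using F.complete.complete)⟩
  obtain ⟨e', he', hee⟩ := CompleteOrthogonalIdempotents.lift_of_isNilpotent_ker ρ0 hρ0 he0 fun a => by
    obtain ⟨x, hx, hxy⟩ := h.exists_red_lift0 g hg (F.mem0 a)
    exact ⟨⟨x, hx⟩, Subtype.ext hxy⟩
  let e : Fin Q.n → h.tab.Alg := fun a => (e' a).1
  have heg : (fun a => h.red g (e a)) = F.e := funext fun a => congrArg Subtype.val (congrFun hee a)
  have hec : CompleteOrthogonalIdempotents e := he'.map h.C0.subtype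
  let ρ1 : h.C1 →+* (h.map g).C1 := (h.red g).restrict h.C1 (h.map g).C1 fun x hx => h.red_mem_C1 g hx
  have hρ1 : ∀ x ∈ RingHom.ker ρ1, IsNilpotent x := fun x hx => by
    obtain ⟨k, hk⟩ := hker x.1 (congrArg Subtype.val hx)
    exact ⟨k, Subtype.ext hk⟩
  have htg : ∀ b, h.red g (h.twist ε e b) = (h.map g).twist F.ε F.e b := fun b => by
    rw [Par.Valid.red_twist, hεg, heg]
  have hmem1 : ∀ b, h.twist ε e b ∈ h.C1 := fun b => by
    obtain ⟨x, hx, hxy⟩ := h.exists_red_lift1 g hg (F.mem1 b)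
    obtain ⟨f, hf, hfg⟩ := exists_isIdempotentElem_eq_of_ker_isNilpotent ρ1 hρ1 ⟨_, F.mem1 b⟩
      ⟨⟨x, hx⟩, Subtype.ext hxy⟩ (Subtype.ext (isIdempotentElem_mix F.idem (F.complete.idem _) (F.complete.idem _)))
    have : h.twist ε e b = f.1 := by
      refine eq_of_isNilpotent_sub_of_isIdempotentElem (isIdempotentElem_mix hε (hec.idem _) (hec.idem _))
        (hf.map h.C1.subtype) (h.isNilpotent_of_red g hnil ?_)
      rw [map_sub, htg, sub_eq_zero]
      exact (congrArg Subtype.val hfg).symm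
    rw [this]
    exact f.2
  have hU0 : ∀ r p, Low 0 (h.U0 e r p) := fun r p => h.C0.mul_mem (e' p.1).2 (h.C0.pow_mem h.X0_mem _) r
  have hU1 : ∀ r p, High 0 (h.U1 (h.twist ε e) r p) := fun r p =>
    h.C1.mul_mem (hmem1 p.1) (h.C1.pow_mem h.X1_mem _) r
  refine ⟨⟨ε, e, hε, ?_, hec, fun a => (e' a).2, hmem1, ?_, ?_⟩⟩
  · obtain ⟨k, hk⟩ := F.nil
    have h1 : h.red g ((ε - h.z) ^ k) = 0 := by rw [map_pow, map_sub, hεg, Par.Valid.red_z, hk]
    obtain ⟨j, hj⟩ := h.isNilpotent_of_red g hnil h1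
    exact ⟨k * j, by rw [pow_mul, hj]⟩
  · obtain ⟨V', -, hV', h1, -⟩ := F.inv0
    rw [← heg, ← Par.Valid.map_U0] at h1
    obtain ⟨V, hV, h2, h3⟩ := exists_inv_of_map (W := posSub R) (W' := posSub R') g.toRingHom
      (fun x hx => Low.map _ hx) (fun y hy => by
        obtain ⟨x, hx, hl, -⟩ := exists_Lmap_lift (f := g.toRingHom) hg y
        exact ⟨x, hl 0 hy, hx⟩) hnil hU0 hV' h1
    exact ⟨V, hU0, hV, h2, h3⟩
  · obtain ⟨V', -, hV', h1, -⟩ := F.inv1
    rw [show (h.map g).twist F.ε F.e = fun b => h.red g (h.twist ε e b) from funext fun b => (htg b).symm,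
      ← Par.Valid.map_U1] at h1
    obtain ⟨V, hV, h2, h3⟩ := exists_inv_of_map (W := negSub R) (W' := negSub R') g.toRingHom
      (fun x hx => High.map _ hx) (fun y hy => by
        obtain ⟨x, hx, -, hh⟩ := exists_Lmap_lift (f := g.toRingHom) hg y
        exact ⟨x, hh 0 hy, hx⟩) hnil hU1 hV' h1
    exact ⟨V, hU1, hV, h2, h3⟩

end Groth.Agent.PBC51.Loop
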