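import Mathlib.Algebra.Polynomial.Laurent
import Mathlib.RingTheory.Nilpotent.Basic
import Mathlib.RingTheory.Nilpotent.Lemmas
import Mathlib.LinearAlgebra.Matrix.NonsingularInverse

/-!
Laurent polynomials with bounded exponents, and matrices of such.
-/

set_option autoImplicit false

namespace Groth.Agent.PBC51.Loop

universe u

open LaurentPolynomial

/-- Laurent polynomials. -/
abbrev L (R : Type u) [CommRing R] := LaurentPolynomial R

variable {R S : Type u} [CommRing R] [CommRing S]

/-- Exponents at least `a`. -/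
def Low (a : ℤ) (x : L R) : Prop := ∀ k < a, x.coeff k = 0

/-- Exponents at most `b`. -/
def High (b : ℤ) (x : L R) : Prop := ∀ k, b < k → x.coeff k = 0

/-- Extension of a ring map to Laurent polynomials. -/
noncomputable def Lmap (f : R →+* S) : L R →+* L S := AddMonoidAlgebra.mapRingHom ℤ f

theorem coeff_Lmap (f : R →+* S) (x : L R) (k : ℤ) : (Lmap f x).coeff k = f (x.coeff k) :=
  AddMonoidAlgebra.coeff_mapRingHom f x k

theorem Lmap_C (f : R →+* S) (r : R) : Lmap f (C r) = C (f r) :=
  AddMonoidAlgebra.mapRingHom_single f 0 r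

theorem Lmap_T (f : R →+* S) (k : ℤ) : Lmap f (T k) = T k :=
  (AddMonoidAlgebra.mapRingHom_single f k 1).trans (congrArg (AddMonoidAlgebra.single k) (map_one f))

theorem Lmap_comp {U : Type u} [CommRing U] (f : R →+* S) (g : S →+* U) (x : L R) :
    Lmap (g.comp f) x = Lmap g (Lmap f x) :=
  LaurentPolynomial.ext fun k => by simp [coeff_Lmap]

theorem Lmap_id (x : L R) : Lmap (RingHom.id R) x = x :=
  LaurentPolynomial.ext fun k => by simp [coeff_Lmap]

theorem Lmap_injective {f : R →+* S} (hf : Function.Injective f) : Function.Injective (Lmap f) :=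
  fun x y h => LaurentPolynomial.ext fun k => hf (by rw [← coeff_Lmap, ← coeff_Lmap, h])

theorem coeff_C (r : R) (k : ℤ) : (C r : L R).coeff k = if k = 0 then r else 0 := C_apply r k

theorem coeff_C_mul_T (r : R) (m k : ℤ) : (C r * T m : L R).coeff k = if m = k then r else 0 := by
  rw [← single_eq_C_mul_T, AddMonoidAlgebra.coeff_single, Finsupp.single_apply]

section Bounds

variable {a b : ℤ} {x y : L R}

theorem Low.mono (h : Low a x) (hab : b ≤ a) : Low b x := fun k hk => h k (hk.trans_le hab)

theorem High.mono (h : High a x) (hab : a ≤ b) : High b x := fun k hk => h k (hab.trans_lt hk)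

theorem low_zero : Low a (0 : L R) := fun k _ => by simp
theorem high_zero : High a (0 : L R) := fun k _ => by simp

theorem Low.add (hx : Low a x) (hy : Low a y) : Low a (x + y) := fun k hk => by
  simp [hx k hk, hy k hk]

theorem High.add (hx : High a x) (hy : High a y) : High a (x + y) := fun k hk => by
  simp [hx k hk, hy k hk]

theorem Low.neg (hx : Low a x) : Low a (-x) := fun k hk => by simp [hx k hk]
theorem High.neg (hx : High a x) : High a (-x) := fun k hk => by simp [hx k hk]

theorem Low.sum {ι : Type*} {s : Finset ι} {f : ι → L R} (h : ∀ i ∈ s, Low a (f i)) : Low a (∑ i ∈ s, f i) :=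
  Finset.sum_induction f (Low a) (fun _ _ => Low.add) low_zero h

theorem High.sum {ι : Type*} {s : Finset ι} {f : ι → L R} (h : ∀ i ∈ s, High a (f i)) : High a (∑ i ∈ s, f i) :=
  Finset.sum_induction f (High a) (fun _ _ => High.add) high_zero h

theorem low_C (r : R) : Low 0 (C r : L R) := fun k hk => by simp [hk.ne]
theorem high_C (r : R) : High 0 (C r : L R) := fun k hk => by simp [hk.ne']

theorem low_T {m : ℤ} (h : a ≤ m) : Low a (T m : L R) := fun k hk => by
  simp [(hk.trans_le h).ne']

theorem high_T {m : ℤ} (h : m ≤ a) : High a (T m : L R) := fun k hk => by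
  simp [(h.trans_lt hk).ne]

theorem Low.mul (hx : Low a x) (hy : Low b y) : Low (a + b) (x * y) := fun k hk => by
  classical
  rw [AddMonoidAlgebra.coeff_mul]
  refine Finset.sum_eq_zero fun i hi => Finset.sum_eq_zero fun j hj => ?_
  show (if i + j = k then x.coeff i * y.coeff j else 0) = 0
  split_ifs with h
  · have h1 : a ≤ i := le_of_not_gt fun hlt => Finsupp.mem_support_iff.1 hi (hx i hlt)
    have h2 : b ≤ j := le_of_not_gt fun hlt => Finsupp.mem_support_iff.1 hj (hy j hlt)
    omega
  · rfl

theorem High.mul (hx : High a x) (hy : High b y) : High (a + b) (x * y) := fun k hk => by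
  classical
  rw [AddMonoidAlgebra.coeff_mul]
  refine Finset.sum_eq_zero fun i hi => Finset.sum_eq_zero fun j hj => ?_
  show (if i + j = k then x.coeff i * y.coeff j else 0) = 0
  split_ifs with h
  · have h1 : i ≤ a := le_of_not_gt fun hlt => Finsupp.mem_support_iff.1 hi (hx i hlt)
    have h2 : j ≤ b := le_of_not_gt fun hlt => Finsupp.mem_support_iff.1 hj (hy j hlt)
    omega
  · rfl

theorem Low.map (f : R →+* S) (hx : Low a x) : Low a (Lmap f x) := fun k hk => by
  rw [coeff_Lmap, hx k hk, map_zero]

theorem High.map (f : R →+* S) (hx : High a x) : High a (Lmap f x) := fun k hk => by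
  rw [coeff_Lmap, hx k hk, map_zero]

variable (R)

/-- Polynomials in `t`. -/
def posSub : Subring (L R) where
  carrier := {x | Low 0 x}
  mul_mem' := fun {_ _} hx hy => by simpa using Low.mul hx hy
  one_mem' := by simpa using low_C (R := R) 1
  add_mem' := fun {_ _} => Low.add
  zero_mem' := low_zero
  neg_mem' := fun {_} => Low.neg

/-- Polynomials in `t⁻¹`. -/
def negSub : Subring (L R) where
  carrier := {x | High 0 x}
  mul_mem' := fun {_ _} hx hy => by simpa using High.mul hx hy
  one_mem' := by simpa using high_C (R := R) 1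
  add_mem' := fun {_ _} => High.add
  zero_mem' := high_zero
  neg_mem' := fun {_} => High.neg

variable {R}

theorem mem_posSub : x ∈ posSub R ↔ Low 0 x := Iff.rfl
theorem mem_negSub : x ∈ negSub R ↔ High 0 x := Iff.rfl

theorem low_toLaurent (p : Polynomial R) : Low 0 (Polynomial.toLaurent p) := by
  induction p using Polynomial.induction_on' with
  | add p q hp hq => rw [map_add]; exact hp.add hq
  | monomial m r =>
    rw [← Polynomial.C_mul_X_pow_eq_monomial, Polynomial.toLaurent_C_mul_X_pow]
    simpa using Low.mul (low_C r) (low_T (a := 0) (m := (m : ℤ)) (Int.natCast_nonneg m))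

theorem exists_toLaurent_of_low (h : Low 0 x) : ∃ p : Polynomial R, Polynomial.toLaurent p = x := by
  refine ⟨trunc x, LaurentPolynomial.ext fun k => ?_⟩
  have hsum : x = ∑ i ∈ x.coeff.support, C (x.coeff i) * T i := LaurentPolynomial.ext fun j => by
    classical
    rw [AddMonoidAlgebra.coeff_sum, Finsupp.finsetSum_apply]
    simp only [coeff_C_mul_T]
    rw [Finset.sum_ite_eq' x.coeff.support j]
    by_cases hj : x.coeff j = 0 <;> simp [hj]
  conv_lhs => rw [hsum, map_sum, map_sum]
  conv_rhs => rw [hsum]
  refine congrArg (fun z : L R => z.coeff k) (Finset.sum_congr rfl fun i hi => ?_)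
  have h0 : 0 ≤ i := le_of_not_gt fun hlt => Finsupp.mem_support_iff.1 hi (h i hlt)
  rw [trunc_C_mul_T, if_pos h0, ← Polynomial.C_mul_X_pow_eq_monomial, Polynomial.toLaurent_C_mul_X_pow,
    Int.toNat_of_nonneg h0]

end Bounds

section Nil

/-- Nilpotent coefficients give a nilpotent element. -/
theorem isNilpotent_of_coeff {x : L R} (h : ∀ k, IsNilpotent (x.coeff k)) : IsNilpotent x := by
  classical
  have hsum : x = ∑ i ∈ x.coeff.support, C (x.coeff i) * T i := LaurentPolynomial.ext fun j => by
    rw [AddMonoidAlgebra.coeff_sum, Finsupp.finsetSum_apply]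
    simp only [coeff_C_mul_T]
    rw [Finset.sum_ite_eq' x.coeff.support j]
    by_cases hj : x.coeff j = 0 <;> simp [hj]
  rw [hsum]
  exact isNilpotent_sum fun i _ => (Commute.all _ _).isNilpotent_mul_right ((h i).map C)

theorem isNilpotent_of_Lmap {f : R →+* S} (hker : ∀ r, f r = 0 → IsNilpotent r) {x : L R}
    (hx : Lmap f x = 0) : IsNilpotent x :=
  isNilpotent_of_coeff fun k => hker _ (by rw [← coeff_Lmap, hx]; simp)

/-- Lifts preserving bounds. -/
theorem exists_Lmap_lift {f : R →+* S} (hf : Function.Surjective f) (y : L S) :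
    ∃ x : L R, Lmap f x = y ∧ (∀ a, Low a y → Low a x) ∧ (∀ b, High b y → High b x) := by
  classical
  choose g hg using hf
  let g' : S → R := fun s => if s = 0 then 0 else g s
  have hg' : ∀ s, f (g' s) = s := fun s => by
    by_cases hs : s = 0 <;> simp [g', hs, hg]
  refine ⟨⟨y.coeff.mapRange g' (if_pos rfl)⟩, LaurentPolynomial.ext fun k => ?_,
    fun a h k hk => ?_, fun b h k hk => ?_⟩
  · rw [coeff_Lmap]; simp [hg']
  · show g' (y.coeff k) = 0
    rw [h k hk]; exact if_pos rfl
  · show g' (y.coeff k) = 0
    rw [h k hk]; exact if_pos rfl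

end Nil

end Groth.Agent.PBC51.Loop
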