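import Groth.Agent.PBC51.Loop.Smooth
import Groth.Agent.CAlg1.SmoothLift
import Groth.Agent.Hensel20.SmoothLift
import Mathlib.RingTheory.Smooth.Locus
import Mathlib.RingTheory.Henselian
import Mathlib.RingTheory.LocalRing.ResidueField.Ideal

/-!
Solutions over henselian local rings lifting a framed solution over the residue field.
-/

set_option autoImplicit false
set_option linter.unusedSectionVars false

namespace Groth.Agent.PBC51.Loop

universe u

open LaurentPolynomial Matrix IsLocalRing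
open scoped TensorProduct

variable {A₀ : Type u} [CommRing A₀]

theorem Base.isNilpotent_root (S : Base A₀) (p : Ideal A₀) (dd : ℕ)
    (hP : ∀ i k, ((S.P - (Polynomial.X ^ 2 - Polynomial.X) ^ dd).coeff i).coeff k ∈ p)
    (R : Type u) [CommRing R] [Algebra A₀ R] (hp : ∀ a ∈ p, IsNilpotent (algebraMap A₀ R a)) :
    IsNilpotent (AdjoinRoot.root (S.P.map (Lmap (algebraMap A₀ R))) ^ 2 -
      AdjoinRoot.root (S.P.map (Lmap (algebraMap A₀ R)))) := by
  let P := S.P.map (Lmap (algebraMap A₀ R))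
  let E := S.P - (Polynomial.X ^ 2 - Polynomial.X) ^ dd
  have h1 : Polynomial.aeval (AdjoinRoot.root P) (E.map (Lmap (algebraMap A₀ R))) =
      -((AdjoinRoot.root P ^ 2 - AdjoinRoot.root P) ^ dd) := by
    simp only [E, Polynomial.map_sub, Polynomial.map_pow, Polynomial.map_X, map_sub, map_pow, Polynomial.aeval_X]
    rw [show Polynomial.aeval (AdjoinRoot.root P) P = 0 from (AdjoinRoot.aeval_eq _).trans AdjoinRoot.mk_self,
      zero_sub]
  have h2 : IsNilpotent (Polynomial.aeval (AdjoinRoot.root P) (E.map (Lmap (algebraMap A₀ R)))) := by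
    rw [Polynomial.aeval_eq_sum_range]
    refine isNilpotent_sum fun i _ => ?_
    rw [Algebra.smul_def]
    refine (Commute.all _ _).isNilpotent_mul_right (IsNilpotent.map ?_ _)
    rw [Polynomial.coeff_map]
    exact isNilpotent_of_coeff fun k => by rw [coeff_Lmap]; exact hp _ (hP i k)
  rw [h1, isNilpotent_neg_iff] at h2
  obtain ⟨m, hm⟩ := h2
  exact ⟨dd * m, by rw [pow_mul]; exact hm⟩

/-- The initial framed solution, from Birkhoff factorisation. -/
theorem Base.exists_framed (S : Base A₀) (k : Type u) [Field k] [Algebra A₀ k]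
    (hz : IsNilpotent (AdjoinRoot.root (S.P.map (Lmap (algebraMap A₀ k))) ^ 2 -
      AdjoinRoot.root (S.P.map (Lmap (algebraMap A₀ k))))) :
    ∃ (d : S.Ix → ℤ) (v : (Par.mk S d).Var → k) (h : (Par.mk S d).Valid v),
      (∀ x, v (Sum.inl x) = 0) ∧ Nonempty h.Frame := by
  classical
  let P := S.P.map (Lmap (algebraMap A₀ k))
  have hP : P.Monic := S.monic.map _
  have hdeg : P.natDegree = S.D := (S.monic.natDegree_map _).trans S.deg
  let B := Curve P
  let z : B := AdjoinRoot.root P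
  obtain ⟨εb, hεb, hεz⟩ : ∃ e : B, IsIdempotentElem e ∧ IsNilpotent (e - z) := by
    obtain ⟨e, he, hez⟩ := exists_isIdempotentElem_eq_of_ker_isNilpotent (Ideal.Quotient.mk (nilradical B))
      (fun x hx => mem_nilradical.1 (Ideal.Quotient.eq_zero_iff_mem.1 hx)) (Ideal.Quotient.mk _ z) ⟨z, rfl⟩ (by
        rw [IsIdempotentElem, ← map_mul, Ideal.Quotient.eq, mem_nilradical, ← pow_two]
        exact hz)
    exact ⟨e, he, mem_nilradical.1 (Ideal.Quotient.eq.1 hez)⟩
  let V0 := copiesEquiv S.n hP hdeg (S.β : ℤ)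
  let φ := twistEquiv (n := S.n) hεb
  let V1 := (copiesEquiv S.n hP hdeg (-(S.α : ℤ))).trans φ.toLinearEquiv
  let G : Matrix S.Ix S.Ix (L k) := LinearMap.toMatrix' (V1.trans V0.symm).toLinearMap
  have hG : IsUnit G.det := by
    refine Matrix.isUnit_det_of_right_inverse (B := LinearMap.toMatrix' (V1.trans V0.symm).symm.toLinearMap) ?_
    rw [← LinearMap.toMatrix'_comp, LinearEquiv.comp_symm]
    exact LinearMap.toMatrix'_id
  obtain ⟨W, U, d, ⟨W', hW, hW', hWW', hW'W⟩, ⟨U', hU, hU', hUU', hU'U⟩, hGU⟩ := birkhoff G hG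
  let Q : Par A₀ := Par.mk S d
  let v0 : Q.Var → k := fun _ => 0
  have hTT : Q.TT v0 = diagT d := by
    have : Q.Δ v0 = 0 := by
      ext i j : 1
      simp [Par.Δ, v0]
    rw [Par.TT, this, add_zero]
  let E : (Q.Ix → L k) ≃ₗ[L k] (Fin S.n → B) := (Matrix.toLin'OfInv hW'W hWW').trans V0
  have hE : ∀ x, E x = V0 (W *ᵥ x) := fun x => rfl
  have hEs : ∀ y, E.symm y = W' *ᵥ V0.symm y := fun y => rfl
  have hED : ∀ x, E (diagT d *ᵥ x) = V1 (U *ᵥ x) := fun x => by
    rw [hE, Matrix.mulVec_mulVec, show W * diagT d = G * U from hGU.symm, ← Matrix.mulVec_mulVec]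
    show V0 (LinearMap.toMatrix' (V1.trans V0.symm).toLinearMap *ᵥ (U *ᵥ x)) = _
    rw [← Matrix.toLin'_apply, Matrix.toLin'_toMatrix']
    show V0 (V0.symm (V1 _)) = _
    rw [V0.apply_symm_apply]
  have hTI : ∀ y, Q.TI v0 *ᵥ E.symm y = U' *ᵥ V1.symm y := fun y => by
    have h1 : E (Q.TT v0 *ᵥ (U' *ᵥ V1.symm y)) = y := by
      rw [hTT, hED, Matrix.mulVec_mulVec, hUU', Matrix.one_mulVec, V1.apply_symm_apply]
    conv_lhs => rw [← h1, E.symm_apply_apply, Matrix.mulVec_mulVec, Par.TI_mul_TT, Matrix.one_mulVec]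
  have hW0 : ∀ i, i < S.D → LaurentPolynomial.T ((S.β : ℤ) * ((S.D : ℤ) - i)) * P.coeff i ∈ posSub k := fun i hi => by
    have := (S.low i hi.le).map (algebraMap A₀ k)
    rwa [map_mul, Lmap_T, ← Polynomial.coeff_map] at this
  have hW1 : ∀ i, i < S.D → LaurentPolynomial.T ((-(S.α : ℤ)) * ((S.D : ℤ) - i)) * P.coeff i ∈ negSub k := fun i hi => by
    have := (S.high i hi.le).map (algebraMap A₀ k)
    rw [map_mul, Lmap_T, ← Polynomial.coeff_map] at this
    rwa [neg_mul]
  have hroot : Polynomial.aeval (fun _ : Fin S.n => z) (S.P.map (Lmap (algebraMap A₀ k))) = 0 := by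
    funext p
    rw [Polynomial.aeval_pi_apply]
    exact (AdjoinRoot.aeval_eq _).trans AdjoinRoot.mk_self
  have hE0 : ∀ i, ∃ x, (∀ p, x p ∈ posSub k) ∧ E (Pi.single i 1) = V0 x := fun i =>
    ⟨W *ᵥ Pi.single i 1, fun p => by rw [Matrix.mulVec_single_one]; exact hW p i, hE _⟩
  have hE1 : ∀ i, ∃ x, (∀ p, x p ∈ negSub k) ∧ E ((Q.TT v0).col i) = V1 x := fun i =>
    ⟨U *ᵥ Pi.single i 1, fun p => by rw [Matrix.mulVec_single_one]; exact hU p i,
      by rw [← hED, ← hTT, Matrix.mulVec_single_one]⟩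
  have hφz : φ ((T (-(S.α : ℤ)) : L k) • fun _ : Fin S.n => z) = (T (-(S.α : ℤ)) : L k) • fun _ : Fin S.n => z := by
    rw [map_smul]
    congr 1
    funext p
    rw [twistEquiv_apply]
    ring
  obtain ⟨v, hv, hvl, hvc, hvu, hvx⟩ := Q.exists_valid (fun _ : Fin S.n => z) hroot v0 E
    (fun i j l => by
      obtain ⟨x, hx, hxe⟩ := hE0 i
      obtain ⟨y, hy, hye⟩ := hE0 j
      rw [hEs, hxe, hye]
      exact (posSub k).sum_mem fun r _ => (posSub k).mul_mem (hW' l r) (copiesEquiv_mul_mem hP hdeg _ _ hW0 hx hy r))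
    (fun l => by
      rw [hEs]
      exact (posSub k).sum_mem fun r _ => (posSub k).mul_mem (hW' l r) (copiesEquiv_one_mem hP hdeg _ _ hW0 r))
    (fun l => by
      rw [hEs]
      exact (posSub k).sum_mem fun r _ => (posSub k).mul_mem (hW' l r) (copiesEquiv_root_mem hP hdeg _ _ hW0 r))
    (fun i j l => by
      obtain ⟨x, hx, hxe⟩ := hE1 i
      obtain ⟨y, hy, hye⟩ := hE1 j
      rw [hTI, hxe, hye]
      refine (negSub k).sum_mem fun r _ => (negSub k).mul_mem (hU' l r) ?_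
      show (copiesEquiv S.n hP hdeg (-(S.α : ℤ))).symm (φ.symm (φ (copiesEquiv S.n hP hdeg (-(S.α : ℤ)) x) * φ _)) r ∈ _
      rw [← map_mul, AlgEquiv.symm_apply_apply]
      exact copiesEquiv_mul_mem hP hdeg _ _ hW1 hx hy r)
    (fun l => by
      rw [hTI]
      refine (negSub k).sum_mem fun r _ => (negSub k).mul_mem (hU' l r) ?_
      show (copiesEquiv S.n hP hdeg (-(S.α : ℤ))).symm (φ.symm 1) r ∈ _
      rw [map_one]
      exact copiesEquiv_one_mem hP hdeg _ _ hW1 r)
    (fun l => by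
      rw [hTI]
      refine (negSub k).sum_mem fun r _ => (negSub k).mul_mem (hU' l r) ?_
      show (copiesEquiv S.n hP hdeg (-(S.α : ℤ))).symm (φ.symm ((T (-(S.α : ℤ)) : L k) • fun _ => z)) r ∈ _
      rw [← hφz, AlgEquiv.symm_apply_apply]
      exact copiesEquiv_root_mem hP hdeg _ _ hW1 r)
  have hinl : ∀ x, v (Sum.inl x) = 0 := fun x => hvl x
  have hTI' : Q.TI v = Q.TI v0 := by
    have : Q.Δ v = Q.Δ v0 := by
      ext i j : 1
      simp [Par.Δ, hinl, v0]
    exact congrArg (triInv Q.d) this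
  -- the transported structure
  let Φ : (Fin S.n → B) → hv.tab.Alg := fun y => hv.tab.vec (E.symm y)
  have hΦc : ∀ y, hv.tab.coord (Φ y) = E.symm y := fun y => rfl
  have hΦm : ∀ x y, Φ (x * y) = Φ x * Φ y := fun x y => Tab.ext _ fun r => by
    rw [Tab.coord_mul]
    simp only [hΦc]
    show _ = ∑ i, ∑ j, E.symm x i * E.symm y j * Q.c0 v i j r
    simp only [hvc]
    conv_lhs => rw [← E.apply_symm_apply x, ← E.apply_symm_apply y, pi_eq_sum_univ' (E.symm x),
      pi_eq_sum_univ' (E.symm y)]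
    simp only [map_sum, map_smul, Finset.sum_mul_sum, smul_mul_smul_comm, Finset.sum_apply, Pi.smul_apply,
      smul_eq_mul, E.apply_symm_apply]
  let Φh : (Fin S.n → B) →+* hv.tab.Alg :=
    { toFun := Φ
      map_one' := Tab.ext _ fun r => by rw [hΦc, ← hvu]; rfl
      map_zero' := Tab.ext _ fun r => by rw [hΦc, map_zero, map_zero]
      map_add' := fun x y => Tab.ext _ fun r => by rw [hΦc, map_add, map_add]; rfl
      map_mul' := hΦm }
  have hΦs : ∀ (a : L k) y, Φh (a • y) = a • Φh y := fun a y => Tab.ext _ fun r => by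
    show E.symm (a • y) r = _
    rw [map_smul, map_smul]
    rfl
  have hX0 : Φh ((T (S.β : ℤ) : L k) • fun _ => z) = hv.X0 := Tab.ext _ fun r => by
    rw [Par.Valid.coord_X0, hvx]; rfl
  have hzΦ : Φh (fun _ => z) = hv.z := by
    have h1 := hX0
    rw [hΦs, Par.Valid.X0, ← Algebra.smul_def] at h1
    have h2 := congrArg (fun w => (T (-(S.β : ℤ)) : L k) • w) h1
    simp only [smul_smul, ← T_add] at h2
    change _ = (T (-(S.β : ℤ) + S.β) : L k) • hv.z at h2
    rw [neg_add_cancel, T_zero, one_smul] at h2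
    simpa using h2
  have hX1 : Φh ((T (-(S.α : ℤ)) : L k) • fun _ => z) = hv.X1 := by
    rw [hΦs, hzΦ, Par.Valid.X1, Algebra.smul_def]
  have htw : ∀ b, hv.twist (Φh fun _ => εb) (fun a => Φh (Pi.single a 1)) b = Φh (φ (Pi.single b 1)) := fun b => by
    rw [Par.Valid.twist, ← map_one Φh, ← map_sub, ← map_mul, ← map_mul, ← map_add]
    congr 1
    rw [show φ (Pi.single b 1) = _ from twistEquiv_single hεb b 1]
    funext a
    simp
  have hsingle : ∀ (p : S.Ix) (c : B), (Pi.single p.1 c : Fin S.n → B) = Pi.single p.1 1 * fun _ => c := fun p c => by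
    funext a
    simp [Pi.single_apply]
  have hU0 : hv.U0 (fun a => Φh (Pi.single a 1)) = W' := by
    ext r p : 1
    show hv.tab.coord (Φh (Pi.single p.1 1) * hv.X0 ^ (p.2 : ℕ)) r = _
    rw [← hX0, ← map_pow, ← map_mul]
    show E.symm _ r = _
    have : Pi.single p.1 1 * ((T (S.β : ℤ) : L k) • fun _ => z) ^ (p.2 : ℕ) = V0 (Pi.single p 1) := by
      rw [show V0 (Pi.single p 1) = _ from copiesEquiv_single hP hdeg _ p,
        hsingle p (scaledRoot P (S.β : ℤ) ^ (p.2 : ℕ))]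
      congr 1
      funext a
      rw [Pi.pow_apply, Pi.smul_apply, Algebra.smul_def]
      rfl
    rw [this, hEs, V0.symm_apply_apply, Matrix.mulVec_single_one]
    rfl
  have hU1 : hv.U1 (hv.twist (Φh fun _ => εb) fun a => Φh (Pi.single a 1)) = U' := by
    ext r p : 1
    show (Q.TI v *ᵥ hv.tab.coord (hv.twist _ _ p.1 * hv.X1 ^ (p.2 : ℕ))) r = _
    rw [htw, ← hX1, ← map_pow, ← map_mul, hTI']
    show (Q.TI v0 *ᵥ E.symm _) r = _
    have : φ (Pi.single p.1 1) * ((T (-(S.α : ℤ)) : L k) • fun _ => z) ^ (p.2 : ℕ) = V1 (Pi.single p 1) := by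
      show _ = φ (copiesEquiv S.n hP hdeg (-(S.α : ℤ)) (Pi.single p 1))
      rw [copiesEquiv_single hP hdeg _ p, hsingle p (scaledRoot P (-(S.α : ℤ)) ^ (p.2 : ℕ)), map_mul]
      congr 1
      conv_lhs => rw [← hφz]
      rw [← map_pow]
      congr 1
      funext a
      rw [Pi.pow_apply, Pi.smul_apply, Algebra.smul_def]
      rfl
    rw [this, hTI, V1.symm_apply_apply, Matrix.mulVec_single_one]
    rfl
  refine ⟨d, v, hv, hinl, ⟨⟨Φh fun _ => εb, fun a => Φh (Pi.single a 1), ?_, ?_, ?_, fun a l => ?_, fun b l => ?_,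
    by rw [hU0]; exact ⟨W, hW', hW, hW'W, hWW'⟩, by rw [hU1]; exact ⟨U, hU', hU, hU'U, hUU'⟩⟩⟩⟩
  · exact (show IsIdempotentElem (fun _ : Fin S.n => εb) from funext fun _ => hεb).map Φh
  · rw [← hzΦ, ← map_sub]
    obtain ⟨m, hm⟩ := hεz
    exact IsNilpotent.map (r := (fun _ => εb) - fun _ : Fin S.n => z) ⟨m, funext fun _ => hm⟩ Φh
  · exact (CompleteOrthogonalIdempotents.single (fun _ : Fin S.n => B)).map Φh
  · show Low 0 (E.symm (Pi.single a 1) l)
    rw [hEs]
    have h1 := fun i : Fin S.D => powEquiv_coord_pow hP hdeg (S.β : ℤ) (posSub k) hW0 0 i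
    exact (posSub k).sum_mem fun q _ => (posSub k).mul_mem (hW' l q) (by
      show (powEquiv hP hdeg (S.β : ℤ)).symm ((Pi.single a 1 : Fin S.n → B) q.1) q.2 ∈ _
      rw [Pi.single_apply]
      split_ifs
      · simpa using h1 q.2
      · rw [map_zero]; exact (posSub k).zero_mem)
  · show High 0 ((Q.TI v *ᵥ hv.tab.coord (hv.twist _ _ b)) l)
    rw [htw, hTI']
    show High 0 ((Q.TI v0 *ᵥ E.symm (φ (Pi.single b 1))) l)
    rw [hTI]
    have h1 := fun i : Fin S.D => powEquiv_coord_pow hP hdeg (-(S.α : ℤ)) (negSub k) hW1 0 i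
    exact (negSub k).sum_mem fun q _ => (negSub k).mul_mem (hU' l q) (by
      show (copiesEquiv S.n hP hdeg (-(S.α : ℤ))).symm (φ.symm (φ (Pi.single b 1))) q ∈ _
      rw [AlgEquiv.symm_apply_apply]
      show (powEquiv hP hdeg (-(S.α : ℤ))).symm ((Pi.single b 1 : Fin S.n → B) q.1) q.2 ∈ _
      rw [Pi.single_apply]
      split_ifs
      · simpa using h1 q.2
      · rw [map_zero]; exact (negSub k).zero_mem)

theorem exists_residue_hom {O : Type u} [CommRing O] [Algebra A₀ O] (p : Ideal A₀) [p.IsPrime]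
    (g0 : O →ₐ[A₀] p.ResidueField) (K : Type u) [Field K] [Algebra A₀ K] (f : O →ₐ[A₀] K)
    (hf : RingHom.ker f.toRingHom = RingHom.ker g0.toRingHom) :
    ∃ σ : p.ResidueField →ₐ[A₀] K, σ.comp g0 = f := by
  have hpk : ∀ a ∈ p, algebraMap A₀ K a = 0 := fun a ha => by
    have h1 : algebraMap A₀ O a ∈ RingHom.ker g0.toRingHom := by
      show g0 (algebraMap A₀ O a) = 0
      rw [g0.commutes]
      exact Ideal.algebraMap_residueField_eq_zero.2 ha
    rw [← hf] at h1
    rw [← f.commutes]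
    exact h1
  have hunit : ∀ a ∈ p.primeCompl, IsUnit ((algebraMap A₀ K) a) := fun a ha => by
    refine isUnit_iff_ne_zero.2 fun h0a => ha ?_
    have h1 : algebraMap A₀ O a ∈ RingHom.ker f.toRingHom := by
      show f (algebraMap A₀ O a) = 0
      rw [f.commutes, h0a]
    rw [hf] at h1
    have h2 : g0 (algebraMap A₀ O a) = 0 := h1
    rw [g0.commutes] at h2
    exact Ideal.algebraMap_residueField_eq_zero.1 h2
  let σ := Ideal.ResidueField.liftₐ p (Algebra.ofId A₀ K) (fun a ha => hpk a ha) hunit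
  refine ⟨σ, AlgHom.ext fun o => ?_⟩
  obtain ⟨a', b', hb', hab⟩ := IsFractionRing.div_surjective (A := A₀ ⧸ p) (g0 o)
  obtain ⟨a, rfl⟩ := Ideal.Quotient.mk_surjective a'
  obtain ⟨b, rfl⟩ := Ideal.Quotient.mk_surjective b'
  have hbp : b ∉ p := fun hb => nonZeroDivisors.ne_zero hb' (Ideal.Quotient.eq_zero_iff_mem.2 hb)
  have hb0 : algebraMap A₀ p.ResidueField b ≠ 0 := fun hb => hbp (Ideal.algebraMap_residueField_eq_zero.1 hb)
  have hab' : algebraMap A₀ p.ResidueField b * g0 o = algebraMap A₀ p.ResidueField a := by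
    rw [← hab]
    show algebraMap A₀ p.ResidueField b * (algebraMap A₀ p.ResidueField a / algebraMap A₀ p.ResidueField b) = _
    rw [mul_div_cancel₀ _ hb0]
  have hb1 : algebraMap A₀ K b ≠ 0 := (hunit b hbp).ne_zero
  have h1 : algebraMap A₀ O b * o - algebraMap A₀ O a ∈ RingHom.ker f.toRingHom := by
    rw [hf]
    show g0 _ = 0
    rw [map_sub, map_mul, g0.commutes, g0.commutes, hab', sub_self]
  have h2 : algebraMap A₀ K b * f o = algebraMap A₀ K a := by
    have h1' : f (algebraMap A₀ O b * o - algebraMap A₀ O a) = 0 := h1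
    rwa [map_sub, map_mul, f.commutes, f.commutes, sub_eq_zero] at h1'
  refine mul_left_cancel₀ hb1 ?_
  show algebraMap A₀ K b * σ (g0 o) = _
  rw [h2, ← σ.commutes b, ← map_mul, hab', σ.commutes]

/-- Smoothness of the parameter space at a framed point. -/
theorem Par.liftsSmall (Q : Par A₀) (p : Ideal A₀) [p.IsPrime] (dd : ℕ)
    (hP : ∀ i k, ((Q.P - (Polynomial.X ^ 2 - Polynomial.X) ^ dd).coeff i).coeff k ∈ p)
    {v0 : Q.Var → p.ResidueField} (h0 : Q.Valid v0) (h0l : ∀ x, v0 (Sum.inl x) = 0) (F0 : h0.Frame)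
    (g0 : Q.O →ₐ[A₀] p.ResidueField) (hg0 : g0 ∘ Q.univ = v0) :
    CAlg1.LiftsSmall A₀ Q.O (RingHom.ker g0.toRingHom) := by
  intro B' B _ _ _ _ _ _ _ _ π hπ hker gB hgB
  obtain ⟨t, ht, hta⟩ := hker
  have hv : Q.Valid (gB ∘ Q.univ) := Q.valid_univ.map gB
  let rB : B →ₐ[A₀] ResidueField B := IsScalarTower.toAlgHom A₀ B (ResidueField B)
  obtain ⟨σ, hσ⟩ := exists_residue_hom p g0 (ResidueField B) (rB.comp gB) (Ideal.ext fun x => by
    rw [← hgB]
    exact residue_eq_zero_iff (gB x))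
  have he : rB ∘ (gB ∘ Q.univ) = σ ∘ v0 := by
    rw [← hg0]
    exact funext fun x => (AlgHom.congr_fun hσ (Q.univ x)).symm
  have hFB : Nonempty (hv.map rB).Frame := by
    have : ∀ {w w' : Q.Var → ResidueField B} (hw : Q.Valid w) (hw' : Q.Valid w'), w = w' →
        Nonempty hw.Frame → Nonempty hw'.Frame := by
      intro w w' hw hw' e hF
      subst e
      exact hF
    exact this _ _ he.symm ⟨F0.map h0 σ⟩
  obtain ⟨FB0⟩ := hFB
  have hnilB : ∀ b : B, b ∈ maximalIdeal B → IsNilpotent b := fun b hb => by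
    obtain ⟨m, hm⟩ := (isArtinianRing_iff_isNilpotent_maximalIdeal B).mp inferInstance
    have h1 := Ideal.pow_mem_pow hb m
    rw [hm] at h1
    exact ⟨m, h1⟩
  have hnilB' : ∀ b : B', b ∈ maximalIdeal B' → IsNilpotent b := fun b hb => by
    obtain ⟨m, hm⟩ := (isArtinianRing_iff_isNilpotent_maximalIdeal B').mp inferInstance
    have h1 := Ideal.pow_mem_pow hb m
    rw [hm] at h1
    exact ⟨m, h1⟩
  obtain ⟨FB⟩ := hv.exists_frame rB residue_surjective
    (fun b hb => hnilB b ((residue_eq_zero_iff b).1 hb)) FB0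
  have hδ : ∀ x, IsNilpotent ((gB ∘ Q.univ) (Sum.inl x)) := fun x => by
    refine hnilB _ ((residue_eq_zero_iff _).1 ?_)
    have h1 := congrFun he (Sum.inl x)
    simp only [Function.comp_apply, h0l, map_zero] at h1
    exact h1
  have hkerπ : ∀ r, π r = 0 → IsNilpotent r := fun r hr => hnilB' r (IsLocalRing.le_maximalIdeal
    (RingHom.ker_ne_top π.toRingHom) hr)
  have hann : ∀ r s, π r = 0 → IsNilpotent s → r * s = 0 := fun r s hr hs => by
    obtain ⟨c, rfl⟩ := Ideal.mem_span_singleton'.1 (ht ▸ hr : r ∈ Ideal.span {t})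
    have hsm : s ∈ maximalIdeal B' := by
      rw [mem_maximalIdeal]
      exact hs.not_isUnit
    rw [mul_assoc, mul_comm t, hta s hsm, mul_zero]
  have hzB : ∀ a ∈ p, IsNilpotent (algebraMap A₀ B' a) := fun a ha => by
    refine hnilB' _ ?_
    rw [mem_maximalIdeal, mem_nonunits_iff]
    intro hu
    have h1 := (hu.map π).map rB
    rw [π.commutes, rB.commutes, ← σ.commutes, Ideal.algebraMap_residueField_eq_zero.2 ha, map_zero] at h1
    exact not_isUnit_zero h1
  obtain ⟨w, hw, hwv⟩ := Par.exists_lift π hπ hkerπ hann (Q.toBase.isNilpotent_root p dd hP B' hzB) hv FB hδ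
  obtain ⟨g', hg'⟩ := Q.exists_hom hw
  refine ⟨g', Q.hom_ext ?_⟩
  rw [AlgHom.coe_comp, Function.comp_assoc, hg', hwv]

/-- A solution over a henselian local ring with framed reduction. -/
theorem Base.exists_lifted (S : Base A₀) [IsNoetherianRing A₀] (A : Type u) [CommRing A] [HenselianLocalRing A]
    [Algebra A₀ A] (dd : ℕ)
    (hP : ∀ i k, algebraMap A₀ A (((S.P - (Polynomial.X ^ 2 - Polynomial.X) ^ dd).coeff i).coeff k) ∈ maximalIdeal A) :
    ∃ (d : S.Ix → ℤ) (v : (Par.mk S d).Var → A) (h : (Par.mk S d).Valid v),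
      Nonempty (h.map (IsScalarTower.toAlgHom A₀ A (ResidueField A))).Frame := by
  classical
  let p : Ideal A₀ := (maximalIdeal A).comap (algebraMap A₀ A)
  let k0 := p.ResidueField
  have hzk : ∀ (R : Type u) [CommRing R] [Algebra A₀ R], (∀ a ∈ p, IsNilpotent (algebraMap A₀ R a)) →
      IsNilpotent (AdjoinRoot.root (S.P.map (Lmap (algebraMap A₀ R))) ^ 2 -
        AdjoinRoot.root (S.P.map (Lmap (algebraMap A₀ R)))) := fun R _ _ hR =>
    S.isNilpotent_root p dd (fun i k => hP i k) R hR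
  obtain ⟨d, v0, h0, h0l, ⟨F0⟩⟩ := S.exists_framed k0 (hzk k0 fun a ha => by
    rw [Ideal.algebraMap_residueField_eq_zero.2 ha]; exact IsNilpotent.zero)
  let Q : Par A₀ := Par.mk S d
  obtain ⟨g0, hg0⟩ := Q.exists_hom h0
  let q : Ideal Q.O := RingHom.ker g0.toRingHom
  have : q.IsPrime := RingHom.ker_isPrime _
  have hsm : Algebra.IsSmoothAt A₀ q :=
    CAlg1.isSmoothAt_of_liftsSmall q (Q.liftsSmall p dd (fun i k => hP i k) h0 h0l F0 g0 hg0)
  have : Algebra.FinitePresentation A₀ Q.O := Algebra.FinitePresentation.of_finiteType.1 inferInstance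
  obtain ⟨f, hfq, hf⟩ : ∃ f : Q.O, f ∉ q ∧ Algebra.Smooth A₀ (Localization.Away f) := by
    obtain ⟨_, ⟨f, rfl⟩, hqf, hsub⟩ := PrimeSpectrum.isTopologicalBasis_basic_opens.exists_subset_of_mem_open
      (show (⟨q, inferInstance⟩ : PrimeSpectrum Q.O) ∈ Algebra.smoothLocus A₀ Q.O from hsm) Algebra.isOpen_smoothLocus
    exact ⟨f, hqf, Algebra.basicOpen_subset_smoothLocus_iff_smooth.1 hsub⟩
  let kA := ResidueField A
  let ιk : k0 →ₐ[A₀] kA := Ideal.ResidueField.liftₐ p (Algebra.ofId A₀ kA)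
    (fun a ha => (residue_eq_zero_iff _).2 ha) fun a ha => isUnit_iff_ne_zero.2 fun h0a => ha
      ((residue_eq_zero_iff _).1 h0a)
  let gk : Q.O →ₐ[A₀] kA := ιk.comp g0
  let gf : Localization.Away f →ₐ[A₀] kA := IsLocalization.liftAlgHom (M := Submonoid.powers f) (f := gk) fun y => by
    obtain ⟨m, hm⟩ := y.2
    rw [← hm, map_pow]
    exact (isUnit_iff_ne_zero.2 fun hh => hfq (ιk.toRingHom.injective (hh.trans (map_zero _).symm))).pow m
  let σk : TensorProduct A₀ A (Localization.Away f) →ₐ[A] kA :=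
    Algebra.TensorProduct.lift (Algebra.ofId A kA) gf fun x y => Commute.all _ _
  obtain ⟨τ, hτ⟩ := Hensel20.exists_lift_of_smooth (I := maximalIdeal A)
    (TensorProduct A₀ A (Localization.Away f)) σk
  let gA : Q.O →ₐ[A₀] A := ((τ.restrictScalars A₀).comp Algebra.TensorProduct.includeRight).comp
    (IsScalarTower.toAlgHom A₀ Q.O (Localization.Away f))
  have hA : Q.Valid (gA ∘ Q.univ) := Q.valid_univ.map gA
  refine ⟨d, gA ∘ Q.univ, hA, ?_⟩
  have he : (IsScalarTower.toAlgHom A₀ A kA) ∘ (gA ∘ Q.univ) = ιk ∘ v0 := by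
    rw [← hg0]
    funext x
    show IsScalarTower.toAlgHom A₀ A kA (gA (Q.univ x)) = gk (Q.univ x)
    have h1 := AlgHom.congr_fun hτ (1 ⊗ₜ[A₀] algebraMap Q.O (Localization.Away f) (Q.univ x))
    refine h1.trans ?_
    refine (Algebra.TensorProduct.lift_tmul (Algebra.ofId A kA) gf (fun x y => Commute.all _ _) 1 _).trans ?_
    refine (congrArg (· * _) (map_one (Algebra.ofId A kA))).trans ((one_mul _).trans ?_)
    exact IsLocalization.lift_eq _ _
  have : ∀ {w w' : Q.Var → kA} (hw : Q.Valid w) (hw' : Q.Valid w'), w = w' → Nonempty hw.Frame → Nonempty hw'.Frame := by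
    intro w w' hw hw' e hF
    subst e
    exact hF
  exact this _ _ he.symm ⟨F0.map h0 ιk⟩

end Groth.Agent.PBC51.Loop
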