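import Groth.Agent.PBC51.Loop.Chartwise
import Mathlib.RingTheory.FiniteType
import Mathlib.RingTheory.Adjoin.FG
import Mathlib.RingTheory.IntegralClosure.IntegralRestrict

/-!
Loops on the closed fibre of a two-chart cover of the projective line over a henselian local ring
with roots and idempotent supports are trivial.
-/

set_option autoImplicit false
set_option linter.unusedSectionVars false

namespace Groth.Agent.PBC51.Loop

universe u

open LaurentPolynomial Matrix IsLocalRing Groth.Agent.Cons51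

theorem coeff_toLaurent_nat {A : Type u} [CommRing A] (p : Polynomial A) (k : ℕ) :
    (Polynomial.toLaurent p).coeff (k : ℤ) = p.coeff k := by
  rw [LaurentPolynomial.coeff_toLaurent]
  exact Finsupp.mapDomain_apply (fun a b e => Int.ofNat_inj.1 e) _ k

/-- Data of two charts over the projective line glued along their intersection. -/
structure Charts (A : Type u) [CommRing A] (R0 R1 R01 : Type u) [CommRing R0] [CommRing R1] [CommRing R01] where
  φ0 : Polynomial A →+* R0
  φ1 : Polynomial A →+* R1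
  i0 : R0 →+* R01
  i1 : R1 →+* R01
  int0 : φ0.IsIntegral
  int1 : φ1.IsIntegral
  mul_one' : i0 (φ0 Polynomial.X) * i1 (φ1 Polynomial.X) = 1
  comm : ∀ a, i0 (φ0 (Polynomial.C a)) = i1 (φ1 (Polynomial.C a))
  surj0 : ∀ x, ∃ (N : ℕ) (a : R0), i0 (φ0 Polynomial.X) ^ N * x = i0 a
  ker0 : ∀ a, i0 a = 0 → ∃ N : ℕ, φ0 Polynomial.X ^ N * a = 0
  surj1 : ∀ x, ∃ (N : ℕ) (a : R1), i1 (φ1 Polynomial.X) ^ N * x = i1 a
  ker1 : ∀ a, i1 a = 0 → ∃ N : ℕ, φ1 Polynomial.X ^ N * a = 0

variable {A R0 R1 R01 : Type u} [CommRing A] [CommRing R0] [CommRing R1] [CommRing R01]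
  (D : Charts A R0 R1 R01)

/-- The scalars. -/
noncomputable def Charts.const : A →+* R01 := (D.i0.comp D.φ0).comp Polynomial.C

/-- The coordinate on the intersection. -/
noncomputable def Charts.unit : R01ˣ :=
  Units.mkOfMulEqOne (D.i0 (D.φ0 Polynomial.X)) (D.i1 (D.φ1 Polynomial.X)) D.mul_one'

/-- Laurent polynomials on the intersection. -/
noncomputable def Charts.φ : L A →+* R01 := LaurentPolynomial.eval₂ D.const D.unit

theorem Charts.φ_toLaurent (p : Polynomial A) : D.φ (Polynomial.toLaurent p) = D.i0 (D.φ0 p) := by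
  rw [Charts.φ, eval₂_toLaurent]
  induction p using Polynomial.induction_on' with
  | add p q hp hq => rw [Polynomial.eval₂_add, hp, hq, map_add, map_add]
  | monomial n a =>
    rw [Polynomial.eval₂_monomial, ← Polynomial.C_mul_X_pow_eq_monomial, map_mul, map_mul, map_pow, map_pow]
    rfl

theorem Charts.φ_T (k : ℤ) : D.φ (T k) = ((D.unit ^ k : R01ˣ) : R01) := eval₂_T _ _ _

theorem Charts.φ_C (a : A) : D.φ (LaurentPolynomial.C a) = D.const a := eval₂_C _ _ _

theorem Charts.φ_invert (p : Polynomial A) :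
    D.φ (invert (Polynomial.toLaurent p)) = D.i1 (D.φ1 p) := by
  induction p using Polynomial.induction_on' with
  | add p q hp hq => simp only [map_add, hp, hq]
  | monomial n a =>
    rw [← Polynomial.C_mul_X_pow_eq_monomial, Polynomial.toLaurent_C_mul_X_pow, map_mul, invert_C, invert_T, map_mul,
      D.φ_C, D.φ_T, map_mul, map_mul, map_pow, map_pow, _root_.zpow_neg, zpow_natCast, ← inv_pow, Units.val_pow_eq_pow_val]
    show D.i0 (D.φ0 (Polynomial.C a)) * _ = _
    rw [D.comm]
    rfl

theorem Charts.low_mem (x : L A) (hx : Low 0 x) : ∃ y, D.i0 y = D.φ x := by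
  obtain ⟨p, rfl⟩ := exists_toLaurent_of_low hx
  exact ⟨D.φ0 p, (D.φ_toLaurent p).symm⟩

theorem Charts.high_mem (x : L A) (hx : High 0 x) : ∃ y, D.i1 y = D.φ x := by
  obtain ⟨p, rfl⟩ := exists_invert_toLaurent hx
  exact ⟨D.φ1 p, (D.φ_invert p).symm⟩

theorem Charts.integral : D.φ.IsIntegral := by
  intro x
  obtain ⟨N, a, ha⟩ := D.surj0 x
  obtain ⟨q, hq, hqa⟩ := D.int0 a
  have h1 : D.φ.IsIntegralElem (D.i0 a) := by
    refine ⟨q.map (Polynomial.toLaurent : Polynomial A →+* L A), hq.map _, ?_⟩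
    rw [Polynomial.eval₂_map, show D.φ.comp (Polynomial.toLaurent : Polynomial A →+* L A) = D.i0.comp D.φ0 from
      RingHom.ext D.φ_toLaurent, ← Polynomial.hom_eval₂, hqa, map_zero]
  have h2 : x = D.φ (T (-(N : ℤ))) * D.i0 a := by
    rw [← ha, ← mul_assoc, D.φ_T, show D.i0 (D.φ0 Polynomial.X) = (D.unit : R01) from rfl,
      ← Units.val_pow_eq_pow_val, ← Units.val_mul, ← zpow_natCast, ← _root_.zpow_add, neg_add_cancel, zpow_zero,
      Units.val_one, one_mul]
  rw [h2]
  exact RingHom.IsIntegralElem.mul D.φ D.φ.isIntegralElem_map h1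

variable [HenselianLocalRing A]

/-- A monic equation for a class with prescribed reduction. -/
theorem Charts.exists_equation {e : R01} (he : e * e - e ∈ (maximalIdeal A).map D.const) :
    ∃ (P : Polynomial (L A)) (dd : ℕ), P.Monic ∧ P.eval₂ D.φ e = 0 ∧
      ∀ i k, ((P - (Polynomial.X ^ 2 - Polynomial.X) ^ dd).coeff i).coeff k ∈ maximalIdeal A := by
  classical
  let := D.φ.toAlgebra
  let x := e * e - e
  rw [Ideal.map] at he
  obtain ⟨c, hc⟩ := Finsupp.mem_span_iff_linearCombination _ _ _ |>.1 he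
  let s : Set R01 := Set.range fun m : c.support => c m.1
  let M := Algebra.adjoin (L A) (s : Set R01)
  have : Algebra.IsIntegral (L A) R01 := ⟨fun y => D.integral y⟩
  have hfg : M.toSubmodule.FG := fg_adjoin_of_finite (Set.finite_range _) fun y _ => Algebra.IsIntegral.isIntegral y
  have : Module.Finite (L A) M := Module.Finite.iff_fg.2 hfg
  let J : Ideal (L A) := (maximalIdeal A).map LaurentPolynomial.C
  have hx : x ∈ M := by
    rw [show x = _ from hc.symm, Finsupp.linearCombination_apply, Finsupp.sum]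
    refine M.sum_mem fun m hm => M.mul_mem (Algebra.subset_adjoin ⟨⟨m, hm⟩, rfl⟩) ?_
    obtain ⟨μ, -, hμ⟩ := m.2
    rw [← hμ, ← D.φ_C]
    exact M.algebraMap_mem _
  have hrange : LinearMap.range (LinearMap.mulLeft (L A) (⟨x, hx⟩ : M)) ≤ J • (⊤ : Submodule (L A) M) := by
    rintro _ ⟨y, rfl⟩
    have e1 : (⟨x, hx⟩ : M) = ∑ m ∈ c.support.attach,
        LaurentPolynomial.C (Classical.choose m.1.2) • (⟨c m.1, Algebra.subset_adjoin ⟨m, rfl⟩⟩ : M) := by
      refine Subtype.ext ?_
      rw [AddSubmonoidClass.coe_finsetSum]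
      show x = _
      rw [show x = _ from hc.symm, Finsupp.linearCombination_apply, Finsupp.sum, ← Finset.sum_attach]
      refine Finset.sum_congr rfl fun m _ => ?_
      show c m.1 * _ = D.φ (LaurentPolynomial.C _) * c m.1
      rw [mul_comm, D.φ_C]
      exact congrArg (· * c m.1) (Classical.choose_spec m.1.2).2.symm
    show (⟨x, hx⟩ : M) * y ∈ _
    rw [e1, Finset.sum_mul]
    refine Submodule.sum_mem _ fun m _ => ?_
    rw [smul_mul_assoc]
    exact Submodule.smul_mem_smul (Ideal.mem_map_of_mem _ (Classical.choose_spec m.1.2).1) Submodule.mem_top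
  obtain ⟨p, hp, -, hpc, hp0⟩ := LinearMap.exists_monic_and_natDegree_eq_and_coeff_mem_pow_and_aeval_eq_zero
    (L A) (LinearMap.mulLeft (L A) (⟨x, hx⟩ : M)) J hrange
  have hpx : Polynomial.aeval x p = 0 := by
    rw [show LinearMap.mulLeft (L A) (⟨x, hx⟩ : M) = Algebra.lmul (L A) M ⟨x, hx⟩ from rfl,
      Polynomial.aeval_algHom_apply] at hp0
    have h1 := congrArg (fun F : Module.End (L A) M => F 1) hp0
    have h2 : (Polynomial.aeval (⟨x, hx⟩ : M) p) = 0 := by simpa using h1
    have := congrArg M.val h2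
    rwa [← Polynomial.aeval_algHom_apply, map_zero] at this
  let P := p.comp (Polynomial.X ^ 2 - Polynomial.X)
  have hq : (Polynomial.X ^ 2 - Polynomial.X : Polynomial (L A)).Monic :=
    Polynomial.monic_X_pow_sub (Polynomial.degree_X_le.trans_lt (by norm_num))
  have hqd : (Polynomial.X ^ 2 - Polynomial.X : Polynomial (L A)).natDegree = 2 := by
    compute_degree!
  have hpmap : p.map (Lmap (residue A)) = Polynomial.X ^ p.natDegree := by
    refine Polynomial.ext fun i => ?_
    rw [Polynomial.coeff_map, Polynomial.coeff_X_pow]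
    rcases lt_trichotomy i p.natDegree with hi | rfl | hi
    · rw [if_neg hi.ne]
      have h1 : p.coeff i ∈ J := Ideal.pow_le_self (Nat.sub_pos_of_lt hi).ne' (hpc i)
      have h2 : J ≤ RingHom.ker (Lmap (residue A)) := Ideal.map_le_iff_le_comap.2 fun a ha => by
        show Lmap (residue A) (LaurentPolynomial.C a) = 0
        rw [Lmap_C, (residue_eq_zero_iff a).2 ha, map_zero]
      exact h2 h1
    · rw [if_pos rfl, hp.coeff_natDegree, map_one]
    · rw [if_neg hi.ne', Polynomial.coeff_eq_zero_of_natDegree_lt hi, map_zero]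
  refine ⟨P, p.natDegree, hp.comp hq (by rw [hqd]; norm_num), ?_, fun i k => ?_⟩
  · show Polynomial.aeval e P = 0
    rw [Polynomial.aeval_comp, map_sub, map_pow, Polynomial.aeval_X, pow_two]
    exact hpx
  · rw [← residue_eq_zero_iff, ← coeff_Lmap, ← Polynomial.coeff_map, Polynomial.map_sub, Polynomial.map_comp,
      hpmap, Polynomial.X_pow_comp]
    simp

/-- Scaled roots exist on both charts, and bounds hold, for large scaling. -/
theorem exists_scale (P : Polynomial (L A)) (hP : P.Monic) :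
    ∃ N : ℕ, ∀ β : ℕ, N ≤ β → ∀ i ≤ P.natDegree,
      Low 0 (T ((β : ℤ) * ((P.natDegree : ℤ) - i)) * P.coeff i) ∧
      High 0 (T (-((β : ℤ) * ((P.natDegree : ℤ) - i))) * P.coeff i) := by
  classical
  let s : Finset ℤ := (Finset.range (P.natDegree + 1)).biUnion fun i => (P.coeff i).coeff.support
  refine ⟨s.sup fun k => k.natAbs, fun β hβ i hi => ?_⟩
  rcases eq_or_lt_of_le hi with rfl | hlt
  · rw [sub_self, mul_zero, neg_zero, T_zero, one_mul, hP.coeff_natDegree]
    exact ⟨by simpa using low_C (R := A) 1, by simpa using high_C (R := A) 1⟩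
  · have hb : ∀ k, (P.coeff i).coeff k ≠ 0 → k.natAbs ≤ β := fun k hk =>
      (Finset.le_sup (f := fun k : ℤ => k.natAbs) (Finset.mem_biUnion.2
        ⟨i, Finset.mem_range.2 (by omega), Finsupp.mem_support_iff.2 hk⟩)).trans hβ
    have h1 : (β : ℤ) ≤ (β : ℤ) * ((P.natDegree : ℤ) - i) := le_mul_of_one_le_right (by omega) (by omega)
    have hl : Low (-(β : ℤ)) (P.coeff i) := fun k hk => by
      by_contra hne
      have := hb k hne
      omega
    have hh : High (β : ℤ) (P.coeff i) := fun k hk => by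
      by_contra hne
      have := hb k hne
      omega
    exact ⟨((low_T (R := A) (le_refl _)).mul hl).mono (by omega),
      ((high_T (R := A) (le_refl _)).mul hh).mono (by omega)⟩

/-- Idempotents mod the maximal ideal agreeing with a twist of idempotents. -/
def Charts.LoopTrivial (n : ℕ) (e : R01) : Prop :=
  ∃ (g0 : Fin n → R0) (g1 : Fin n → R1),
    CompleteOrthogonalIdempotents (fun a => Ideal.Quotient.mk ((maximalIdeal A).map (D.φ0.comp Polynomial.C)) (g0 a)) ∧
    CompleteOrthogonalIdempotents (fun a => Ideal.Quotient.mk ((maximalIdeal A).map (D.φ1.comp Polynomial.C)) (g1 a)) ∧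
    ∀ b, D.i1 (g1 b) - (e * D.i0 (g0 ((finRotate n).symm b)) + (1 - e) * D.i0 (g0 b)) ∈ (maximalIdeal A).map D.const

/-- Correcting idempotents off the intersection. -/
theorem exists_complete_lift {R R' : Type u} [CommRing R] [CommRing R'] (hR : IdemAIC R) (i : R →+* R') (t : R)
    (I : Ideal R) (hunit : IsUnit (i t)) (hker : ∀ a : R, i a = 0 → ∃ N : ℕ, t ^ N * a = 0) {n : ℕ} [NeZero n]
    (g : Fin n → R) (h1 : ∀ a b, ∃ w ∈ I, i (g a * g b - if a = b then g a else 0) = i w)
    (h2 : ∃ w ∈ I, i (∑ a, g a - 1) = i w) :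
    ∃ g' : Fin n → R, CompleteOrthogonalIdempotents (fun a => Ideal.Quotient.mk I (g' a)) ∧ ∀ a, i (g' a) = i (g a) := by
  classical
  obtain ⟨u, hu, hut, huz⟩ := hR.supp t
  have hkill : ∀ y, i y = 0 → u * y = 0 := fun y hy => by
    obtain ⟨N, hN⟩ := hker y hy
    exact IdemAIC.supp_eq_zero hR huz hu N hN
  have hiu : i u = 1 := by
    have h3 := congrArg i hut
    rw [map_mul] at h3
    obtain ⟨t', ht'⟩ := hunit.exists_right_inv
    linear_combination t' * h3 - (i u - 1) * ht'
  let δ : Fin n → R := fun a => if a = 0 then 1 else 0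
  refine ⟨fun a => u * g a + (1 - u) * δ a, ⟨⟨fun a => ?_, fun a b hab => ?_⟩, ?_⟩, fun a => ?_⟩
  · obtain ⟨w, hw, hwe⟩ := h1 a a
    rw [if_pos rfl] at hwe
    have h0 := hkill (g a * g a - g a - w) (by rw [map_sub, hwe, sub_self])
    show _ * _ = _
    rw [← map_mul, Ideal.Quotient.eq]
    have hd : δ a * δ a = δ a := by by_cases h : a = 0 <;> simp [δ, h]
    have hu' : u * u = u := hu
    rw [show (u * g a + (1 - u) * δ a) * (u * g a + (1 - u) * δ a) - (u * g a + (1 - u) * δ a) = u * w by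
      linear_combination (g a * g a - 2 * g a * δ a + δ a * δ a) * hu' + h0 + (1 - u) * hd]
    exact I.mul_mem_left _ hw
  · obtain ⟨w, hw, hwe⟩ := h1 a b
    rw [if_neg hab] at hwe
    have h0 := hkill (g a * g b - 0 - w) (by rw [map_sub, hwe, sub_self])
    show _ * _ = (0 : R ⧸ I)
    rw [← map_mul, Ideal.Quotient.eq_zero_iff_mem]
    have hd : δ a * δ b = 0 := by
      by_cases h : a = 0
      · simp [δ, h, show b ≠ 0 from fun hb => hab (h.trans hb.symm)]
      · simp [δ, h]
    have hu' : u * u = u := hu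
    rw [show (u * g a + (1 - u) * δ a) * (u * g b + (1 - u) * δ b) = u * w by
      linear_combination (g a * g b - g a * δ b - g b * δ a + δ a * δ b) * hu' + h0 + (1 - u) * hd]
    exact I.mul_mem_left _ hw
  · obtain ⟨w, hw, hwe⟩ := h2
    have h0 := hkill (∑ a, g a - 1 - w) (by rw [map_sub, hwe, sub_self])
    rw [← map_sum, ← map_one (Ideal.Quotient.mk I), Ideal.Quotient.eq]
    rw [show ∑ a, (u * g a + (1 - u) * δ a) - 1 = u * w by
      rw [Finset.sum_add_distrib, ← Finset.mul_sum, ← Finset.mul_sum, show ∑ a, δ a = 1 by simp [δ]]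
      linear_combination h0]
    exact I.mul_mem_left _ hw
  · simp [hiu]

/-- Sheets of a section of a framed solution. -/
theorem Charts.loopTrivial_of_section (h0 : IdemAIC R0) (h1 : IdemAIC R1) (h01 : IdemAIC R01) {e : R01}
    (he : e * e - e ∈ (maximalIdeal A).map D.const) {A₀ : Type u} [CommRing A₀] [Algebra A₀ A] {Q : Par A₀}
    [NeZero Q.n] {v : Q.Var → A} (h : Q.Valid v) (g : A →ₐ[A₀] ResidueField A) (hgr : ∀ a, g a = residue A a)
    (F : (h.map g).Frame) (σ : h.tab.Alg →+* R01) (hσa : ∀ a, σ (algebraMap (L A) h.tab.Alg a) = D.φ a)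
    (hσz : σ h.z = e) : D.LoopTrivial Q.n e := by
  classical
  -- values on the charts
  have hidem0 : ∀ x : R01, IsIdempotentElem x → x ∈ Set.range D.i0 := fun x hx =>
    idem_mem_range D.i0 h0 _ (D.unit.isUnit) D.surj0 D.ker0 hx
  have hidem1 : ∀ x : R01, IsIdempotentElem x → x ∈ Set.range D.i1 := fun x hx =>
    idem_mem_range D.i1 h1 _ (⟨D.unit⁻¹, rfl⟩) D.surj1 D.ker1 hx
  have hσ0 : ∀ x ∈ h.C0, σ x ∈ D.i0.range := fun x hx => by
    obtain ⟨q, hq, hqx⟩ := h.integral_C0 hx
    rw [← one_mul (σ x)]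
    refine mem_range_of_monic D.i0 h0.roots h01 hidem0 (q.map D.φ0) (hq.map _) 1 (σ x) IsIdempotentElem.one ?_
    rw [one_mul, Polynomial.eval₂_map]
    have h2 := congrArg σ hqx
    rw [Polynomial.aeval_def, Polynomial.eval₂_map, Polynomial.hom_eval₂, map_zero] at h2
    refine (congrArg (fun f => Polynomial.eval₂ f (σ x) q) (RingHom.ext fun p => ?_)).trans h2
    exact ((hσa _).trans (D.φ_toLaurent p)).symm
  have hσ1 : ∀ x ∈ h.C1, σ x ∈ D.i1.range := fun x hx => by
    obtain ⟨q, hq, hqx⟩ := h.integral_C1 hx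
    rw [← one_mul (σ x)]
    refine mem_range_of_monic D.i1 h1.roots h01 hidem1 (q.map D.φ1) (hq.map _) 1 (σ x) IsIdempotentElem.one ?_
    rw [one_mul, Polynomial.eval₂_map]
    have h2 := congrArg σ hqx
    rw [Polynomial.aeval_def, Polynomial.eval₂_map, Polynomial.hom_eval₂, map_zero] at h2
    refine (congrArg (fun f => Polynomial.eval₂ f (σ x) q) (RingHom.ext fun p => ?_)).trans h2
    exact ((hσa _).trans (D.φ_invert p)).symm
  have hg : Function.Surjective g := fun y => by
    obtain ⟨x, rfl⟩ := residue_surjective y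
    exact ⟨x, hgr x⟩
  have hcoef : ∀ (y : L A), Lmap g.toRingHom y = 0 → ∀ k, y.coeff k ∈ maximalIdeal A := fun y hy k => by
    rw [← residue_eq_zero_iff]
    have := congrArg (fun z : L (ResidueField A) => z.coeff k) hy
    exact (hgr _).symm.trans (((coeff_Lmap g.toRingHom y k).symm.trans this).trans (by simp))
  -- values of elements of the first chart vanishing on the fibre
  have hker0 : ∀ x ∈ h.C0, h.red g x = 0 → ∃ w ∈ (maximalIdeal A).map (D.φ0.comp Polynomial.C), σ x = D.i0 w := by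
    intro x hx hx0
    have h1 : ∀ r, ∃ y ∈ (maximalIdeal A).map (D.φ0.comp Polynomial.C), D.i0 y = D.φ (h.tab.coord x r) := fun r => by
      obtain ⟨p, hp⟩ := exists_toLaurent_of_low (hx r)
      refine ⟨D.φ0 p, ?_, by rw [← D.φ_toLaurent, hp]⟩
      rw [p.as_sum_range_C_mul_X_pow, map_sum]
      refine Ideal.sum_mem _ fun k _ => ?_
      rw [map_mul]
      refine Ideal.mul_mem_right _ _ (Ideal.mem_map_of_mem (D.φ0.comp Polynomial.C) ?_)
      have h2 := hcoef (h.tab.coord x r) ((congrFun (congrArg (h.map g).tab.coord hx0) r).trans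
        (by rw [map_zero]; rfl)) (k : ℤ)
      rw [← hp, coeff_toLaurent_nat] at h2
      exact h2
    choose y hy hyx using h1
    have hv : ∀ r, σ (h.tab.e r) ∈ D.i0.range := fun r => hσ0 _ fun k => by
      simp only [LinearEquiv.apply_symm_apply, Pi.single_apply]
      split_ifs
      · simpa using low_C (R := A) 1
      · exact low_zero
    choose v' hv' using hv
    refine ⟨∑ r, y r * v' r, Ideal.sum_mem _ fun r _ => Ideal.mul_mem_right _ _ (hy r), ?_⟩
    conv_lhs => rw [h.tab.eq_sum_e x]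
    simp only [map_sum, Algebra.smul_def, map_mul, hσa, hyx, hv']
  have hker1 : ∀ x ∈ h.C1, h.red g x = 0 → ∃ w ∈ (maximalIdeal A).map (D.φ1.comp Polynomial.C), σ x = D.i1 w := by
    intro x hx hx0
    have h1 : ∀ r, ∃ y ∈ (maximalIdeal A).map (D.φ1.comp Polynomial.C), D.i1 y = D.φ ((Q.TI v *ᵥ h.tab.coord x) r) := fun r => by
      obtain ⟨p, hp⟩ := exists_invert_toLaurent (hx r)
      refine ⟨D.φ1 p, ?_, by rw [← D.φ_invert, hp]⟩
      rw [p.as_sum_range_C_mul_X_pow, map_sum]
      refine Ideal.sum_mem _ fun k _ => ?_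
      rw [map_mul]
      refine Ideal.mul_mem_right _ _ (Ideal.mem_map_of_mem (D.φ1.comp Polynomial.C) ?_)
      have h2 := hcoef ((Q.TI v *ᵥ h.tab.coord x) r) (by rw [← h.coord1_red g, hx0, map_zero, Matrix.mulVec_zero]; rfl) (-(k : ℤ))
      rw [← hp, invert_apply, neg_neg, coeff_toLaurent_nat] at h2
      exact h2
    choose y hy hyx using h1
    have hv : ∀ r, σ (h.tab.vec ((Q.TT v).col r)) ∈ D.i1.range := fun r => hσ1 _ fun k => by
      rw [LinearEquiv.apply_symm_apply, ← Matrix.mulVec_single_one, Matrix.mulVec_mulVec, Par.TI_mul_TT,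
        Matrix.one_mulVec, Pi.single_apply]
      split_ifs
      · simpa using high_C (R := A) 1
      · exact high_zero
    choose v' hv' using hv
    refine ⟨∑ r, y r * v' r, Ideal.sum_mem _ fun r _ => Ideal.mul_mem_right _ _ (hy r), ?_⟩
    have e1 : x = ∑ r, (Q.TI v *ᵥ h.tab.coord x) r • h.tab.vec ((Q.TT v).col r) := by
      apply h.tab.coord.injective
      simp only [map_sum, map_smul, LinearEquiv.apply_symm_apply]
      conv_lhs => rw [← Matrix.one_mulVec (h.tab.coord x), ← Par.TT_mul_TI v, ← Matrix.mulVec_mulVec,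
        Matrix.mulVec_eq_sum]
      simp [op_smul_eq_smul]
      rfl
    conv_lhs => rw [e1]
    simp only [map_sum, Algebra.smul_def, map_mul, hσa, hyx, hv']
  choose eh heh hehr using fun a => h.exists_red_lift0 g hg (F.mem0 a)
  choose fh hfh hfhr using fun b => h.exists_red_lift1 g hg (F.mem1 b)
  obtain ⟨εh, hεh⟩ := h.exists_red_lift g hg F.ε
  choose g0 hg0 using fun a => hσ0 _ (heh a)
  choose g1 hg1 using fun b => hσ1 _ (hfh b)
  have hFc : CompleteOrthogonalIdempotents ((h.map g).twist F.ε F.e) := by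
    refine ⟨⟨fun b => isIdempotentElem_mix F.idem (F.complete.idem _) (F.complete.idem _), fun a b hab => ?_⟩, ?_⟩
    · have e1 : F.e ((finRotate Q.n).symm a) * F.e ((finRotate Q.n).symm b) = 0 :=
        F.complete.ortho fun e => hab ((finRotate Q.n).symm.injective e)
      have e2 : F.e a * F.e b = 0 := F.complete.ortho hab
      have e3 : F.ε * F.ε = F.ε := F.idem
      show (F.ε * _ + _) * (F.ε * _ + _) = 0
      linear_combination (F.ε * F.ε) * e1 + ((1 - F.ε) * (1 - F.ε)) * e2 -
        (F.e ((finRotate Q.n).symm a) * F.e b + F.e a * F.e ((finRotate Q.n).symm b)) * e3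
    · show ∑ b, (F.ε * F.e ((finRotate Q.n).symm b) + (1 - F.ε) * F.e b) = 1
      rw [Finset.sum_add_distrib, ← Finset.mul_sum, ← Finset.mul_sum,
        Equiv.sum_comp (finRotate Q.n).symm F.e, F.complete.complete]
      ring
  obtain ⟨G0, hG0, hG0e⟩ := exists_complete_lift h0 D.i0 (D.φ0 Polynomial.X)
    ((maximalIdeal A).map (D.φ0.comp Polynomial.C)) (D.unit.isUnit) D.ker0 g0 (fun a b => by
      obtain ⟨w, hw, hwe⟩ := hker0 (eh a * eh b - if a = b then eh a else 0)
        (h.C0.sub_mem (h.C0.mul_mem (heh a) (heh b)) (by split_ifs <;> [exact heh a; exact h.C0.zero_mem]))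
        (by
          rw [map_sub, map_mul, hehr, hehr]
          split_ifs with hab
          · subst hab; rw [hehr, (F.complete.idem a).eq, sub_self]
          · rw [map_zero, sub_zero, F.complete.ortho hab])
      refine ⟨w, hw, ?_⟩
      rw [← hwe, map_sub, map_mul, map_sub, map_mul, hg0, hg0]
      split_ifs <;> simp [hg0]) (by
      obtain ⟨w, hw, hwe⟩ := hker0 (∑ a, eh a - 1) (h.C0.sub_mem (h.C0.sum_mem fun a _ => heh a) h.C0.one_mem)
        (by rw [map_sub, map_sum, map_one, Finset.sum_congr rfl fun a _ => hehr a, F.complete.complete, sub_self])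
      exact ⟨w, hw, by rw [← hwe, map_sub, map_sum, map_one, map_sub, map_sum, map_one]; simp [hg0]⟩)
  obtain ⟨G1, hG1, hG1e⟩ := exists_complete_lift h1 D.i1 (D.φ1 Polynomial.X)
    ((maximalIdeal A).map (D.φ1.comp Polynomial.C)) (⟨D.unit⁻¹, rfl⟩) D.ker1 g1 (fun a b => by
      obtain ⟨w, hw, hwe⟩ := hker1 (fh a * fh b - if a = b then fh a else 0)
        (h.C1.sub_mem (h.C1.mul_mem (hfh a) (hfh b)) (by split_ifs <;> [exact hfh a; exact h.C1.zero_mem]))
        (by
          rw [map_sub, map_mul, hfhr, hfhr]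
          split_ifs with hab
          · subst hab; rw [hfhr, (hFc.idem a).eq, sub_self]
          · rw [map_zero, sub_zero, hFc.ortho hab])
      refine ⟨w, hw, ?_⟩
      rw [← hwe, map_sub, map_mul, map_sub, map_mul, hg1, hg1]
      split_ifs <;> simp [hg1]) (by
      obtain ⟨w, hw, hwe⟩ := hker1 (∑ a, fh a - 1) (h.C1.sub_mem (h.C1.sum_mem fun a _ => hfh a) h.C1.one_mem)
        (by rw [map_sub, map_sum, map_one, Finset.sum_congr rfl fun a _ => hfhr a, hFc.complete, sub_self])
      exact ⟨w, hw, by rw [← hwe, map_sub, map_sum, map_one, map_sub, map_sum, map_one]; simp [hg1]⟩)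
  refine ⟨G0, G1, hG0, hG1, fun b => ?_⟩
  -- the twist
  let I := (maximalIdeal A).map D.const
  let π : h.tab.Alg →+* R01 ⧸ I := (Ideal.Quotient.mk I).comp σ
  have hπ : ∀ x, h.red g x = 0 → π x = 0 := fun x hx => by
    show Ideal.Quotient.mk I (σ x) = 0
    rw [Ideal.Quotient.eq_zero_iff_mem, h.tab.eq_sum_e x, map_sum]
    refine Ideal.sum_mem _ fun r _ => ?_
    rw [Algebra.smul_def, map_mul, hσa]
    refine Ideal.mul_mem_right _ _ ?_
    let y := h.tab.coord x r
    have hy := hcoef y ((congrFun (congrArg (h.map g).tab.coord hx) r).trans (by rw [map_zero]; rfl))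
    have hys : y = ∑ k ∈ y.coeff.support, LaurentPolynomial.C (y.coeff k) * T k := LaurentPolynomial.ext fun j => by
      rw [AddMonoidAlgebra.coeff_sum, Finsupp.finsetSum_apply]
      simp only [coeff_C_mul_T]
      rw [Finset.sum_ite_eq' y.coeff.support j]
      by_cases hj : y.coeff j = 0 <;> simp [hj]
    show D.φ y ∈ I
    rw [hys, map_sum]
    refine Ideal.sum_mem _ fun k _ => ?_
    rw [map_mul, D.φ_C]
    exact Ideal.mul_mem_right _ _ (Ideal.mem_map_of_mem _ (hy k))
  let π' : (h.map g).tab.Alg →+* R01 ⧸ I :=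
    RingHom.liftOfSurjective (h.red g) (h.exists_red_lift g hg) ⟨π, fun x hx => hπ x hx⟩
  have hπ' : ∀ x, π' (h.red g x) = π x := fun x => RingHom.liftOfRightInverse_comp_apply _ _ _ _ x
  have hεe : π εh = Ideal.Quotient.mk I e := by
    rw [← hπ', hεh]
    refine eq_of_isNilpotent_sub_of_isIdempotentElem (F.idem.map π') ?_ ?_
    · show _ * _ = _
      rw [← map_mul, Ideal.Quotient.eq]
      exact he
    · have h2 : π' (h.map g).z = Ideal.Quotient.mk I e := by
        rw [← h.red_z g, hπ']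
        show Ideal.Quotient.mk I (σ h.z) = _
        rw [hσz]
      rw [← h2, ← map_sub]
      exact F.nil.map π'
  have h3 : π (fh b) = π (εh * eh ((finRotate Q.n).symm b) + (1 - εh) * eh b) := by
    rw [← hπ', ← hπ', hfhr, map_add, map_mul, map_mul, map_sub, map_one, hεh, hehr, hehr]
    rfl
  rw [← Ideal.Quotient.eq, hG1e, hG0e, hG0e, hg1, hg0, hg0, map_add, map_mul, map_mul, map_sub, map_one]
  refine h3.trans ?_
  rw [map_add, map_mul, map_mul, map_sub, map_one, hεe]
  rfl

/-- Every loop on the closed fibre is trivial. -/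
theorem Charts.loop_trivial (h0 : IdemAIC R0) (h1 : IdemAIC R1) (h01 : IdemAIC R01) (n : ℕ) [NeZero n] {e : R01}
    (he : e * e - e ∈ (maximalIdeal A).map D.const) : D.LoopTrivial n e := by
  classical
  obtain ⟨P, dd, hP, hPe, hPc⟩ := D.exists_equation he
  obtain ⟨N, hN⟩ := exists_scale P hP
  -- a Noetherian ring of coefficients
  let cs : Finset A := (Finset.range (P.natDegree + 1)).biUnion fun i =>
    (P.coeff i).coeff.support.image (P.coeff i).coeff
  let A₀ : Subalgebra ℤ A := Algebra.adjoin ℤ (cs : Set A)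
  have : IsNoetherianRing A₀ := by
    have : Algebra.FiniteType ℤ A₀ := (Subalgebra.fg_iff_finiteType _).1 ⟨cs, rfl⟩
    exact Algebra.FiniteType.isNoetherianRing ℤ A₀
  let ι₀ : A₀ →+* A := A₀.val.toRingHom
  have hι : Function.Injective ι₀ := Subtype.val_injective
  obtain ⟨P0, hP0, hP0d, hP0m⟩ := Polynomial.lifts_and_natDegree_eq_and_monic (f := Lmap ι₀) (p := P)
    ((Polynomial.lifts_iff_coeff_lifts _).2 fun i => by
      have hmem : ∀ k, (P.coeff i).coeff k ∈ A₀ := fun k => by
        by_cases hk : (P.coeff i).coeff k = 0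
        · rw [hk]; exact A₀.zero_mem
        · rcases le_or_gt i P.natDegree with hi | hi
          · exact Algebra.subset_adjoin (Finset.mem_biUnion.2 ⟨i, Finset.mem_range.2 (by omega),
              Finset.mem_image.2 ⟨k, Finsupp.mem_support_iff.2 hk, rfl⟩⟩)
          · exact absurd (by rw [Polynomial.coeff_eq_zero_of_natDegree_lt hi]; simp) hk
      refine ⟨⟨Finsupp.onFinset (P.coeff i).coeff.support (fun k => ⟨_, hmem k⟩) fun k hk =>
        Finsupp.mem_support_iff.2 fun h => hk (Subtype.ext h)⟩, LaurentPolynomial.ext fun k => ?_⟩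
      rw [coeff_Lmap]
      rfl) hP
  have hlow : ∀ (β : ℕ), N ≤ β → ∀ i ≤ P.natDegree, Low 0 (T ((β : ℤ) * ((P.natDegree : ℤ) - i)) * P0.coeff i) ∧
      High 0 (T (-((β : ℤ) * ((P.natDegree : ℤ) - i))) * P0.coeff i) := fun β hβ i hi => by
    obtain ⟨h1, h2⟩ := hN β hβ i hi
    have hc : P.coeff i = Lmap ι₀ (P0.coeff i) := by rw [← hP0, Polynomial.coeff_map]
    rw [hc] at h1 h2
    constructor <;> intro k hk <;> apply hι <;> rw [map_zero, ← coeff_Lmap, map_mul, Lmap_T]
    · exact h1 k hk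
    · exact h2 k hk
  let S : Base A₀ := ⟨P0, n, P.natDegree, N, N, hP0m, hP0d, fun i hi => (hlow N le_rfl i hi).1,
    fun i hi => (hlow N le_rfl i hi).2⟩
  have : NeZero S.n := ‹NeZero n›
  obtain ⟨d, v, h, ⟨F⟩⟩ := S.exists_lifted A dd fun i k => by
    have e1 : Lmap ι₀ ((P0 - (Polynomial.X ^ 2 - Polynomial.X) ^ dd).coeff i) =
        (P - (Polynomial.X ^ 2 - Polynomial.X) ^ dd).coeff i := by
      rw [← Polynomial.coeff_map, Polynomial.map_sub, hP0, Polynomial.map_pow, Polynomial.map_sub, Polynomial.map_pow,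
        Polynomial.map_X]
    show ι₀ _ ∈ _
    rw [← coeff_Lmap, e1]
    exact hPc i k
  let Q : Par A₀ := Par.mk S d
  have hPA : Q.P.map (Lmap (algebraMap A₀ A)) = P := hP0
  -- a section
  obtain ⟨σ, hσa, hσz⟩ := exists_hom h.tab h01 D.φ h.z e fun q hq => by
    obtain ⟨q', rfl⟩ := h.aeval_z_injective F hq
    rw [hPA, Polynomial.eval₂_mul, hPe, zero_mul]
  exact D.loopTrivial_of_section (Q := Q) h0 h1 h01 he h (IsScalarTower.toAlgHom A₀ A (ResidueField A))
    (fun _ => rfl) F σ hσa hσz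

end Groth.Agent.PBC51.Loop
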