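import Groth.Agent.PBC51.Loop.System
import Mathlib.LinearAlgebra.Matrix.ToLin

/-!
Solutions of the system from algebras with bases on the two charts.
-/

set_option autoImplicit false
set_option linter.unusedSectionVars false

namespace Groth.Agent.PBC51.Loop

universe u

open LaurentPolynomial Matrix

variable {A₀ : Type u} [CommRing A₀] (Q : Par A₀) {R : Type u} [CommRing R] [Algebra A₀ R]

theorem low_mulVec {a b : ℤ} {M : Matrix Q.Ix Q.Ix (L R)} {x : Q.Ix → L R} (hM : ∀ i j, Low a (M i j))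
    (hx : ∀ i, Low b (x i)) (i : Q.Ix) : Low (a + b) ((M *ᵥ x) i) :=
  Low.sum fun l _ => (hM i l).mul (hx l)

theorem high_mulVec {a b : ℤ} {M : Matrix Q.Ix Q.Ix (L R)} {x : Q.Ix → L R} (hM : ∀ i j, High a (M i j))
    (hx : ∀ i, High b (x i)) (i : Q.Ix) : High (a + b) ((M *ᵥ x) i) :=
  High.sum fun l _ => (hM i l).mul (hx l)

variable {C : Type u} [CommRing C] [Algebra (L R) C]

/-- A solution from a frame. -/
theorem Par.exists_valid (z : C) (hz : Polynomial.aeval z (Q.P.map (Lmap (algebraMap A₀ R))) = 0)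
    (δ : Q.Var → R) (E : (Q.Ix → L R) ≃ₗ[L R] C)
    (hc : ∀ i j k, Low 0 (E.symm (E (Pi.single i 1) * E (Pi.single j 1)) k))
    (hu : ∀ k, Low 0 (E.symm 1 k))
    (hx : ∀ k, Low 0 (E.symm ((T (Q.β : ℤ) : L R) • z) k))
    (hc' : ∀ i j k, High 0 ((Q.TI δ *ᵥ E.symm (E ((Q.TT δ).col i) * E ((Q.TT δ).col j))) k))
    (hu' : ∀ k, High 0 ((Q.TI δ *ᵥ E.symm 1) k))
    (hx' : ∀ k, High 0 ((Q.TI δ *ᵥ E.symm ((T (-(Q.α : ℤ)) : L R) • z)) k)) :
    ∃ v : Q.Var → R, Q.Valid v ∧ (∀ x, v (Sum.inl x) = δ (Sum.inl x)) ∧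
      (∀ i j k, Q.c0 v i j k = E.symm (E (Pi.single i 1) * E (Pi.single j 1)) k) ∧
      (∀ k, Q.u0 v k = E.symm 1 k) ∧ (∀ k, Q.x0 v k = E.symm ((T (Q.β : ℤ) : L R) • z) k) := by
  classical
  let cc : Q.Ix → Q.Ix → Q.Ix → L R := fun i j => E.symm (E (Pi.single i 1) * E (Pi.single j 1))
  let uu : Q.Ix → L R := E.symm 1
  let xx : Q.Ix → L R := E.symm ((T (Q.β : ℤ) : L R) • z)
  let cc' : Q.Ix → Q.Ix → Q.Ix → L R := fun i j =>
    Q.TI δ *ᵥ E.symm (E ((Q.TT δ).col i) * E ((Q.TT δ).col j))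
  let uu' : Q.Ix → L R := Q.TI δ *ᵥ E.symm 1
  let xx' : Q.Ix → L R := Q.TI δ *ᵥ E.symm ((T (-(Q.α : ℤ)) : L R) • z)
  have hE : ∀ a : Q.Ix → L R, E a = ∑ i, a i • E (Pi.single i 1) := fun a => by
    conv_lhs => rw [pi_eq_sum_univ' a]
    rw [map_sum]
    exact Finset.sum_congr rfl fun i _ => map_smul E _ _
  have hbil : ∀ a b k, E.symm (E a * E b) k = ∑ i, ∑ j, a i * b j * cc i j k := fun a b k => by
    rw [hE a, hE b, Finset.sum_mul_sum]
    simp only [smul_mul_smul_comm, map_sum, map_smul, Finset.sum_apply, Pi.smul_apply, smul_eq_mul]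
    rfl
  have hTcc : ∀ i j, Q.TT δ *ᵥ cc' i j = E.symm (E ((Q.TT δ).col i) * E ((Q.TT δ).col j)) := fun i j => by
    simp only [cc', Matrix.mulVec_mulVec, Par.TT_mul_TI, Matrix.one_mulVec]
  have hTu : Q.TT δ *ᵥ uu' = uu := by
    simp only [uu', uu, Matrix.mulVec_mulVec, Par.TT_mul_TI, Matrix.one_mulVec]
  have hTx : Q.TT δ *ᵥ xx' = (T (-((Q.α : ℤ) + Q.β)) : L R) • xx := by
    simp only [xx', xx, Matrix.mulVec_mulVec, Par.TT_mul_TI, Matrix.one_mulVec, ← map_smul, smul_smul, ← T_add]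
    congr 3
    ring
  have hTh := fun i j => (Par.TT_bound δ i j).2
  have hTl := fun i j => (Par.TT_bound δ i j).1
  have hIh := fun i j => (Par.TI_bound δ i j).2
  have hIl := fun i j => (Par.TI_bound δ i j).1
  have hK : Q.K = 3 * Q.M + Q.α + Q.β := rfl
  have hcK : ∀ i j k, High (Q.K : ℤ) (cc i j k) := fun i j k => by
    have hsingle : ∀ i, (Pi.single i 1 : Q.Ix → L R) = ∑ a, Q.TI δ a i • (Q.TT δ).col a := fun i => by
      funext b
      have := congrFun (congrFun (Par.TT_mul_TI δ) b) i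
      simp only [Finset.sum_apply, Pi.smul_apply, smul_eq_mul, Matrix.col_apply]
      rw [Matrix.mul_apply] at this
      rw [Finset.sum_congr rfl fun a _ => mul_comm _ _, this, Matrix.one_apply, Pi.single_apply]
    have h1 : cc i j = ∑ a, ∑ b, (Q.TI δ a i * Q.TI δ b j) • (Q.TT δ *ᵥ cc' a b) := by
      simp only [hTcc]
      show E.symm _ = _
      rw [hsingle i, hsingle j]
      simp only [map_sum, map_smul, Finset.sum_mul_sum, smul_mul_smul_comm]
    rw [h1]
    simp only [Finset.sum_apply, Pi.smul_apply, smul_eq_mul]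
    refine High.sum fun a _ => High.sum fun b _ => ?_
    exact (((hIh a i).mul (hIh b j)).mul (high_mulVec Q hTh (hc' a b) k)).mono (by omega)
  have huK : ∀ k, High (Q.K : ℤ) (uu k) := fun k => by
    rw [← hTu]
    exact (high_mulVec Q hTh hu' k).mono (by omega)
  have hxK : ∀ k, High (Q.K : ℤ) (xx k) := fun k => by
    have h2 : xx = (T ((Q.α : ℤ) + Q.β) : L R) • (Q.TT δ *ᵥ xx') := by
      rw [hTx, smul_smul, ← T_add, add_neg_cancel, T_zero, one_smul]
    rw [h2]
    exact ((high_T (R := R) (le_refl ((Q.α : ℤ) + Q.β))).mul (high_mulVec Q hTh hx' k)).mono (by omega)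
  have hc'K : ∀ i j k, Low (-(Q.K : ℤ)) (cc' i j k) := fun i j k => by
    refine (low_mulVec Q hIl (b := -(Q.M : ℤ) + -(Q.M : ℤ)) (fun l => ?_) k).mono (by omega)
    rw [hbil]
    refine Low.sum fun a _ => Low.sum fun b _ => ?_
    simpa using ((hTl a i).mul (hTl b j)).mul (hc a b l)
  have hu'K : ∀ k, Low (-(Q.K : ℤ)) (uu' k) := fun k => (low_mulVec Q hIl hu k).mono (by omega)
  have hx'K : ∀ k, Low (-(Q.K : ℤ)) (xx' k) := fun k => by
    refine (low_mulVec Q hIl (b := -((Q.α : ℤ) + Q.β)) (fun l => ?_) k).mono (by omega)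
    have : E.symm ((T (-(Q.α : ℤ)) : L R) • z) l = T (-((Q.α : ℤ) + Q.β)) * xx l := by
      simp only [xx, map_smul, Pi.smul_apply, smul_eq_mul, ← mul_assoc, ← T_add]
      congr 2
      ring
    rw [this]
    exact ((low_T (R := R) (le_refl (-((Q.α : ℤ) + Q.β)))).mul (hx l)).mono (by omega)
  let v : Q.Var → R := fun w => match w with
    | Sum.inl x => δ (Sum.inl x)
    | Sum.inr (Sum.inl (false, i, j, k, m)) => (cc i j k).coeff (m : ℤ)
    | Sum.inr (Sum.inl (true, i, j, k, m)) => (cc' i j k).coeff (-(m : ℤ))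
    | Sum.inr (Sum.inr (false, false, k, m)) => (uu k).coeff (m : ℤ)
    | Sum.inr (Sum.inr (true, false, k, m)) => (uu' k).coeff (-(m : ℤ))
    | Sum.inr (Sum.inr (false, true, k, m)) => (xx k).coeff (m : ℤ)
    | Sum.inr (Sum.inr (true, true, k, m)) => (xx' k).coeff (-(m : ℤ))
  have e0 : ∀ i j k, Q.c0 v i j k = cc i j k := fun i j k => serPos_coeff (hc i j k) (hcK i j k)
  have e0' : ∀ i j k, Q.c1 v i j k = cc' i j k := fun i j k => serNeg_coeff (hc' i j k) (hc'K i j k)
  have eu : ∀ k, Q.u0 v k = uu k := fun k => serPos_coeff (hu k) (huK k)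
  have eu' : ∀ k, Q.u1 v k = uu' k := fun k => serNeg_coeff (hu' k) (hu'K k)
  have ex : ∀ k, Q.x0 v k = xx k := fun k => serPos_coeff (hx k) (hxK k)
  have ex' : ∀ k, Q.x1 v k = xx' k := fun k => serNeg_coeff (hx' k) (hx'K k)
  have eT : Q.TT v = Q.TT δ := rfl
  refine ⟨v, ?_, fun _ => rfl, e0, eu, ex⟩
  have hrmul : ∀ a b k, Q.rmul v a b k = E.symm (E a * E b) k := fun a b k => by
    simp only [Par.rmul, e0, hbil]
  have hzc : ∀ k, Q.zc v k = E.symm z k := fun k => by
    simp only [Par.zc, ex, xx, map_smul, Pi.smul_apply, smul_eq_mul, ← mul_assoc, ← T_add, neg_add_cancel,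
      T_zero, one_mul]
  have hzpow : ∀ p k, Q.zpow v p k = E.symm (z ^ p) k := by
    intro p
    induction p with
    | zero => intro k; simp [Par.zpow, eu, uu]
    | succ p ih =>
      intro k
      rw [Par.zpow, hrmul, funext ih, funext hzc]
      simp [pow_succ]
  intro e
  cases e with
  | comm i j k => simp only [Par.eqn, e0, cc, mul_comm (E (Pi.single i 1))]; exact sub_self _
  | assoc i j l m =>
    simp only [Par.eqn, e0]
    have h1 : ∀ i j l, ∑ k, cc i j k * cc k l m = E.symm (E (Pi.single i 1) * E (Pi.single j 1) * E (Pi.single l 1)) m := by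
      intro i j l
      have := hbil (cc i j) (Pi.single l 1) m
      simp only [cc, LinearEquiv.apply_symm_apply] at this
      rw [this]
      simp [Pi.single_apply, cc]
    have h2 : ∑ k, cc j l k * cc i k m = ∑ k, cc j l k * cc k i m :=
      Finset.sum_congr rfl fun k _ => by simp only [cc, mul_comm (E (Pi.single i 1))]
    rw [h1, h2, h1, sub_eq_zero]
    congr 2
    ring
  | one j k =>
    simp only [Par.eqn, eu, e0]
    have := hbil uu (Pi.single j 1) k
    simp only [uu, LinearEquiv.apply_symm_apply, one_mul, LinearEquiv.symm_apply_apply] at this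
    simp only [Pi.single_apply, mul_ite, mul_one, mul_zero, ite_mul, zero_mul, Finset.sum_ite_eq',
      Finset.mem_univ, if_true] at this
    rw [← this, sub_eq_zero]
    simp [Pi.single_apply, eq_comm]
  | t1 i j k =>
    simp only [Par.eqn, e0', hrmul, eT]
    exact sub_eq_zero.2 (congrFun (hTcc i j) k)
  | t2 k =>
    simp only [Par.eqn, eu, eu', eT]
    exact sub_eq_zero.2 (congrFun hTu k)
  | t3 k =>
    simp only [Par.eqn, ex, ex', eT]
    exact sub_eq_zero.2 (congrFun hTx k)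
  | root k =>
    simp only [Par.eqn, hzpow]
    have h1 := congrArg (fun c => E.symm c k) hz
    rw [Polynomial.aeval_eq_sum_range' (n := Q.D + 1)
      (by have := Polynomial.natDegree_map_le (f := Lmap (algebraMap A₀ R)) (p := Q.P); rw [Q.deg] at this; omega)] at h1
    simpa [map_sum, Finset.sum_apply, Polynomial.coeff_map] using h1

end Groth.Agent.PBC51.Loop
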