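import Groth.Agent.PBC51.Loop.Frame
import Mathlib.Tactic.Abel

/-!
Framed solutions lift along small extensions: the parameter space is smooth there.
-/

set_option autoImplicit false
set_option linter.unusedSectionVars false

namespace Groth.Agent.PBC51.Loop

universe u

open LaurentPolynomial Matrix

variable {R R' : Type u} [CommRing R] [CommRing R']

theorem mul_eq_zero_of_coeff (x y : L R) (h : ∀ i j, x.coeff i * y.coeff j = 0) : x * y = 0 :=
  LaurentPolynomial.ext fun k => by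
    classical
    rw [AddMonoidAlgebra.coeff_mul, Finsupp.sum]
    refine (Finset.sum_eq_zero fun i _ => Finset.sum_eq_zero fun j _ => ?_).trans (by simp)
    show (if i + j = k then x.coeff i * y.coeff j else 0) = 0
    rw [h]
    simp

/-- Truncation to a set of exponents. -/
noncomputable def trunc' (p : ℤ → Prop) [DecidablePred p] (x : L R) : L R := ⟨x.coeff.filter p⟩

theorem coeff_trunc' (p : ℤ → Prop) [DecidablePred p] (x : L R) (k : ℤ) :
    (trunc' p x).coeff k = if p k then x.coeff k else 0 := Finsupp.filter_apply p x.coeff k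

theorem coeff_mul_T (x : L R) (a k : ℤ) : (x * T a).coeff k = x.coeff (k - a) := by
  rw [show (T a : L R) = AddMonoidAlgebra.single a 1 from rfl,
    AddMonoidAlgebra.coeff_mul_single_eq_coeff_mul (m₂ := k - a) (H := fun m' _ => by omega), mul_one]

variable {A₀ : Type u} [CommRing A₀] {Q : Par A₀} [Algebra A₀ R] [Algebra A₀ R']

theorem Par.var_ext {v w : Q.Var → R} (hv : Q.Valid v) (hw : Q.Valid w)
    (h0 : ∀ x, v (Sum.inl x) = w (Sum.inl x)) (hc : ∀ i j k, Q.c0 v i j k = Q.c0 w i j k)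
    (hu : ∀ k, Q.u0 v k = Q.u0 w k) (hx : ∀ k, Q.x0 v k = Q.x0 w k) : v = w := by
  have hΔ : Q.Δ v = Q.Δ w := by
    ext i j : 1
    simp [Par.Δ, h0]
  have hT : Q.TT v = Q.TT w := congrArg (diagT Q.d + ·) hΔ
  have inj : ∀ a b : Q.Ix → L R, Q.TT w *ᵥ a = Q.TT w *ᵥ b → a = b := fun a b hab => by
    have := congrArg (fun z => Q.TI w *ᵥ z) hab
    simpa [Matrix.mulVec_mulVec, Par.TI_mul_TT] using this
  have hr : ∀ a b k, Q.rmul v a b k = Q.rmul w a b k := fun a b k => by simp [Par.rmul, hc]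
  have hc1 : ∀ i j, Q.c1 v i j = Q.c1 w i j := fun i j => inj _ _ (funext fun k => by
    have e1 := sub_eq_zero.1 (hv (.t1 i j k))
    have e2 := sub_eq_zero.1 (hw (.t1 i j k))
    rw [hr, hT] at e1
    exact e1.trans e2.symm)
  have hu1 : Q.u1 v = Q.u1 w := inj _ _ (funext fun k => by
    have e1 := sub_eq_zero.1 (hv (.t2 k))
    rw [hu, hT] at e1
    exact e1.trans (sub_eq_zero.1 (hw (.t2 k))).symm)
  have hx1 : Q.x1 v = Q.x1 w := inj _ _ (funext fun k => by
    have e1 := sub_eq_zero.1 (hv (.t3 k))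
    rw [hx, hT] at e1
    exact e1.trans (sub_eq_zero.1 (hw (.t3 k))).symm)
  funext x
  match x with
  | Sum.inl x => exact h0 x
  | Sum.inr (Sum.inl (false, i, j, k, m)) =>
    simpa [Par.c0, coeff_serPos] using congrArg (fun z : L R => z.coeff (m : ℤ)) (hc i j k)
  | Sum.inr (Sum.inl (true, i, j, k, m)) =>
    simpa [Par.c1, coeff_serNeg] using congrArg (fun z : L R => z.coeff (-(m : ℤ))) (congrFun (hc1 i j) k)
  | Sum.inr (Sum.inr (false, false, k, m)) =>
    simpa [Par.u0, coeff_serPos] using congrArg (fun z : L R => z.coeff (m : ℤ)) (hu k)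
  | Sum.inr (Sum.inr (true, false, k, m)) =>
    simpa [Par.u1, coeff_serNeg] using congrArg (fun z : L R => z.coeff (-(m : ℤ))) (congrFun hu1 k)
  | Sum.inr (Sum.inr (false, true, k, m)) =>
    simpa [Par.x0, coeff_serPos] using congrArg (fun z : L R => z.coeff (m : ℤ)) (hx k)
  | Sum.inr (Sum.inr (true, true, k, m)) =>
    simpa [Par.x1, coeff_serNeg] using congrArg (fun z : L R => z.coeff (-(m : ℤ))) (congrFun hx1 k)

/-- The curve over `R`. -/
noncomputable abbrev Par.PR (Q : Par A₀) (R : Type u) [CommRing R] [Algebra A₀ R] : Polynomial (L R) :=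
  Q.P.map (Lmap (algebraMap A₀ R))

/-- Framed solutions lift along small extensions. -/
theorem Par.exists_lift (g : R →ₐ[A₀] R') (hg : Function.Surjective g) (hnil : ∀ r, g r = 0 → IsNilpotent r)
    (hann : ∀ r s, g r = 0 → IsNilpotent s → r * s = 0) [Nontrivial R]
    (hZ : IsNilpotent (AdjoinRoot.root (Q.PR R) ^ 2 - AdjoinRoot.root (Q.PR R)))
    {v : Q.Var → R'} (h : Q.Valid v) (F : h.Frame) (hδ : ∀ x, IsNilpotent (v (Sum.inl x))) :
    ∃ w : Q.Var → R, Q.Valid w ∧ g ∘ w = v := by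
  classical
  let P := Q.PR R
  let B := Curve P
  let C := Fin Q.n → B
  have hP : P.Monic := Q.monic.map _
  have hdeg : P.natDegree = Q.D := (Q.monic.natDegree_map _).trans Q.deg
  have hW0 : ∀ i, i < Q.D → LaurentPolynomial.T ((Q.β : ℤ) * ((Q.D : ℤ) - i)) * P.coeff i ∈ posSub R := fun i hi => by
    have := (Q.low i hi.le).map (algebraMap A₀ R)
    rwa [map_mul, Lmap_T, ← Polynomial.coeff_map] at this
  have hW1 : ∀ i, i < Q.D → LaurentPolynomial.T ((-(Q.α : ℤ)) * ((Q.D : ℤ) - i)) * P.coeff i ∈ negSub R := fun i hi => by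
    have := (Q.high i hi.le).map (algebraMap A₀ R)
    rw [map_mul, Lmap_T, ← Polynomial.coeff_map] at this
    rwa [neg_mul]
  let z : B := AdjoinRoot.root P
  obtain ⟨εb, hεb, hεz⟩ : ∃ e : B, IsIdempotentElem e ∧ IsNilpotent (e - z) := by
    obtain ⟨e, he, hez⟩ := exists_isIdempotentElem_eq_of_ker_isNilpotent (Ideal.Quotient.mk (nilradical B))
      (fun x hx => mem_nilradical.1 (Ideal.Quotient.eq_zero_iff_mem.1 hx)) (Ideal.Quotient.mk _ z) ⟨z, rfl⟩ (by
        rw [IsIdempotentElem, ← map_mul, Ideal.Quotient.eq, mem_nilradical, ← pow_two]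
        exact hZ)
    exact ⟨e, he, mem_nilradical.1 (Ideal.Quotient.eq.1 hez)⟩
  let V0 := copiesEquiv Q.n hP hdeg (Q.β : ℤ)
  let φ := twistEquiv (n := Q.n) hεb
  let V1 := (copiesEquiv Q.n hP hdeg (-(Q.α : ℤ))).trans φ.toLinearEquiv
  -- the map to the given solution
  let f : L R →+* h.tab.Alg := (algebraMap (L R') h.tab.Alg).comp (Lmap g.toRingHom)
  have hroot : P.eval₂ f h.z = 0 := by
    have := h.root
    rw [Polynomial.aeval_def, Polynomial.eval₂_map] at this
    rw [Polynomial.eval₂_map]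
    refine (congrArg (fun F => Polynomial.eval₂ F h.z Q.P) (RingHom.ext fun x => ?_)).trans this
    show algebraMap (L R') h.tab.Alg (Lmap g.toRingHom (Lmap (algebraMap A₀ R) x)) = _
    rw [← Lmap_comp]
    exact congrArg (fun F => algebraMap (L R') h.tab.Alg (Lmap F x)) g.comp_algebraMap
  let ψ : B →+* h.tab.Alg := AdjoinRoot.lift f h.z hroot
  have hψz : ψ z = h.z := AdjoinRoot.lift_root hroot
  have hψa : ∀ a, ψ (algebraMap (L R) B a) = algebraMap (L R') h.tab.Alg (Lmap g.toRingHom a) :=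
    fun a => AdjoinRoot.lift_of hroot
  have hψε : ψ εb = F.ε := by
    refine eq_of_isNilpotent_sub_of_isIdempotentElem (hεb.map ψ) F.idem ?_
    have h1 : IsNilpotent (ψ (εb - z)) := hεz.map ψ
    rw [map_sub, hψz] at h1
    have : ψ εb - F.ε = (ψ εb - h.z) - (F.ε - h.z) := by ring
    rw [this]
    exact (Commute.all _ _).isNilpotent_sub h1 F.nil
  let Ψ : C →+* h.tab.Alg :=
    { toFun := fun y => ∑ a, F.e a * ψ (y a)
      map_one' := by
        show ∑ a, F.e a * ψ 1 = 1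
        simp only [map_one, mul_one, F.complete.complete]
      map_zero' := by
        show ∑ a, F.e a * ψ 0 = 0
        simp only [map_zero, mul_zero, Finset.sum_const_zero]
      map_add' := fun x y => by
        show ∑ a, F.e a * ψ (x a + y a) = (∑ a, F.e a * ψ (x a)) + ∑ a, F.e a * ψ (y a)
        simp only [map_add, mul_add, Finset.sum_add_distrib]
      map_mul' := fun x y => by
        rw [Finset.sum_mul_sum]
        refine Finset.sum_congr rfl fun a _ => ?_
        rw [Finset.sum_eq_single a (fun b _ hba => ?_) (fun hh => absurd (Finset.mem_univ a) hh)]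
        · rw [Pi.mul_apply, map_mul]
          have : F.e a * F.e a = F.e a := F.complete.idem a
          linear_combination (-(ψ (x a) * ψ (y a))) * this
        · have : F.e a * F.e b = 0 := F.complete.ortho (Ne.symm hba)
          linear_combination (ψ (x a) * ψ (y b)) * this }
  have hΨa : ∀ a, Ψ (algebraMap (L R) C a) = algebraMap (L R') h.tab.Alg (Lmap g.toRingHom a) := fun a => by
    show ∑ b, F.e b * ψ (algebraMap (L R) B a) = _
    rw [← Finset.sum_mul, F.complete.complete, one_mul, hψa]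
  have hΨs : ∀ a (y : C), Ψ (a • y) = Lmap g.toRingHom a • Ψ y := fun a y => by
    rw [Algebra.smul_def, map_mul, hΨa, Algebra.smul_def]
  have hΨsingle : ∀ a (b : B), Ψ (Pi.single a b) = F.e a * ψ b := fun a b => by
    show ∑ c, F.e c * ψ (Pi.single (M := fun _ => B) a b c) = _
    rw [Finset.sum_eq_single a (fun c _ hc => by simp [hc]) (by simp)]
    simp
  have hψs : ∀ s : ℤ, ψ (scaledRoot P s) = algebraMap (L R') h.tab.Alg (T s) * h.z := fun s => by
    rw [scaledRoot, map_mul, hψa, hψz, Lmap_T]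
  have hcomb : ∀ (E : (Q.Ix → L R) ≃ₗ[L R] C) (U : Matrix Q.Ix Q.Ix (L R')),
      (∀ p, h.tab.coord (Ψ (E (Pi.single p 1))) = U.col p) →
      ∀ x, h.tab.coord (Ψ (E x)) = U *ᵥ fun p => Lmap g.toRingHom (x p) := by
    intro E U hU x
    conv_lhs => rw [pi_eq_sum_univ' x]
    simp only [map_sum, map_smul, hΨs, hU, Matrix.mulVec_eq_sum, op_smul_eq_smul]
    rfl
  have hV0 : ∀ p, h.tab.coord (Ψ (V0 (Pi.single p 1))) = (h.U0 F.e).col p := fun p => by
    rw [show V0 (Pi.single p 1) = _ from copiesEquiv_single hP hdeg _ p, hΨsingle, map_pow, hψs]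
    rfl
  have hV1 : ∀ p, h.tab.coord (Ψ (V1 (Pi.single p 1))) = (Q.TT v * h.U1 (h.twist F.ε F.e)).col p := fun p => by
    let c : B := scaledRoot P (-(Q.α : ℤ)) ^ (p.2 : ℕ)
    have e1 : V1 (Pi.single p 1) = φ (Pi.single p.1 c) :=
      congrArg φ (copiesEquiv_single hP hdeg _ p)
    have e2 : φ (Pi.single p.1 c) =
        Pi.single ((finRotate Q.n).symm p.1) (εb * c) + Pi.single p.1 ((1 - εb) * c) := by
      rw [show φ (Pi.single p.1 c) = _ from twistEquiv_single hεb p.1 c]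
      funext a
      simp [Pi.single_apply]
    rw [e1, e2, map_add, hΨsingle, hΨsingle, map_mul, map_mul, map_sub, map_one, hψε, map_pow, hψs,
      show F.e ((finRotate Q.n).symm p.1) * (F.ε * _) + F.e p.1 * ((1 - F.ε) * _) =
        h.twist F.ε F.e p.1 * h.X1 ^ (p.2 : ℕ) from by unfold Par.Valid.twist Par.Valid.X1; ring]
    funext r
    show _ = (Q.TT v * h.U1 (h.twist F.ε F.e)) r p
    rw [Matrix.mul_apply]
    have : h.tab.coord (h.twist F.ε F.e p.1 * h.X1 ^ (p.2 : ℕ)) =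
        Q.TT v *ᵥ (Q.TI v *ᵥ h.tab.coord (h.twist F.ε F.e p.1 * h.X1 ^ (p.2 : ℕ))) := by
      rw [Matrix.mulVec_mulVec, Par.TT_mul_TI, Matrix.one_mulVec]
    rw [this]
    rfl
  -- lift the frames
  obtain ⟨W0', hl0, hl0', h00, h00'⟩ := F.inv0
  obtain ⟨W1', hl1, hl1', h11, h11'⟩ := F.inv1
  choose X0 hX0 hX0l _ using fun i j => exists_Lmap_lift (f := g.toRingHom) hg (W0' i j)
  choose X1 hX1 _ hX1h using fun i j => exists_Lmap_lift (f := g.toRingHom) hg (W1' i j)
  obtain ⟨Y0, hY0, hXY0, hYX0⟩ := exists_inv_of_map (W := posSub R) (W' := posSub R') g.toRingHom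
    (fun x hx => Low.map _ hx) (fun y hy => by
      obtain ⟨x, hx, hl, -⟩ := exists_Lmap_lift (f := g.toRingHom) hg y
      exact ⟨x, hl 0 hy, hx⟩) hnil (U := Matrix.of X0) (fun i j => hX0l i j 0 (hl0' i j)) hl0 (by
      rw [show (Matrix.of X0).map (Lmap g.toRingHom) = W0' from Matrix.ext hX0]; exact h00')
  obtain ⟨Y1, hY1, hXY1, hYX1⟩ := exists_inv_of_map (W := negSub R) (W' := negSub R') g.toRingHom
    (fun x hx => High.map _ hx) (fun y hy => by
      obtain ⟨x, hx, -, hh⟩ := exists_Lmap_lift (f := g.toRingHom) hg y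
      exact ⟨x, hh 0 hy, hx⟩) hnil (U := Matrix.of X1) (fun i j => hX1h i j 0 (hl1' i j)) hl1 (by
      rw [show (Matrix.of X1).map (Lmap g.toRingHom) = W1' from Matrix.ext hX1]; exact h11')
  let M0 : (Q.Ix → L R) ≃ₗ[L R] (Q.Ix → L R) := Matrix.toLin'OfInv hYX0 hXY0
  let M1 : (Q.Ix → L R) ≃ₗ[L R] (Q.Ix → L R) := Matrix.toLin'OfInv hYX1 hXY1
  let E0 := M0.trans V0
  let E1 := M1.trans V1
  have hgX : ∀ (X : Matrix Q.Ix Q.Ix (L R)) (x : Q.Ix → L R), (fun p => Lmap g.toRingHom ((X *ᵥ x) p)) =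
      X.map (Lmap g.toRingHom) *ᵥ fun p => Lmap g.toRingHom (x p) := fun X x => by
    funext p
    simp only [Matrix.mulVec, dotProduct, map_sum, map_mul, Matrix.map_apply]
  have hΨE0 : ∀ x, h.tab.coord (Ψ (E0 x)) = fun p => Lmap g.toRingHom (x p) := fun x => by
    show h.tab.coord (Ψ (V0 (Matrix.of X0 *ᵥ x))) = _
    rw [hcomb V0 _ hV0, hgX, show (Matrix.of X0).map (Lmap g.toRingHom) = W0' from Matrix.ext hX0,
      Matrix.mulVec_mulVec, h00, Matrix.one_mulVec]
  have hΨE1 : ∀ x, h.tab.coord (Ψ (E1 x)) = Q.TT v *ᵥ fun p => Lmap g.toRingHom (x p) := fun x => by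
    show h.tab.coord (Ψ (V1 (Matrix.of X1 *ᵥ x))) = _
    rw [hcomb V1 _ hV1, hgX, show (Matrix.of X1).map (Lmap g.toRingHom) = W1' from Matrix.ext hX1,
      Matrix.mulVec_mulVec, mul_assoc, h11, mul_one]
  let T' : Matrix Q.Ix Q.Ix (L R) := Matrix.of fun i j => E0.symm (E1 (Pi.single j 1)) i
  have hT' : ∀ x, E0 (T' *ᵥ x) = E1 x := fun x => by
    refine (congrArg E0 ?_).trans (E0.apply_symm_apply (E1 x))
    conv_rhs => rw [pi_eq_sum_univ' x]
    simp only [map_sum, map_smul, Matrix.mulVec_eq_sum, op_smul_eq_smul]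
    rfl
  have hgT : ∀ i j, Lmap g.toRingHom (T' i j) = Q.TT v i j := fun i j => by
    have h1 := hΨE0 (T' *ᵥ Pi.single j 1)
    rw [hT', hΨE1] at h1
    have h2 := congrFun h1 i
    rw [show (fun p => Lmap g.toRingHom ((Pi.single j 1 : Q.Ix → L R) p)) = Pi.single j 1 from funext fun p => by
      simp [Pi.single_apply, apply_ite (Lmap g.toRingHom)]] at h2
    simp only [Matrix.mulVec_single_one, Matrix.col_apply] at h2
    exact h2.symm
  -- normalise
  choose δ₀ hδ₀ using fun x => hg (v (Sum.inl x))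
  let δ₀' : Q.Var → R := Sum.elim δ₀ fun _ => 0
  let D' : Matrix Q.Ix Q.Ix (L R) := T' - Q.TT δ₀'
  have hD' : ∀ i j k, g ((D' i j).coeff k) = 0 := fun i j k => by
    have h1 : Lmap g.toRingHom (D' i j) = 0 := by
      rw [show D' i j = T' i j - Q.TT δ₀' i j from rfl, map_sub, hgT, Par.Lmap_TT, sub_eq_zero]
      refine congrFun (congrFun (congrArg (diagT Q.d + ·) ?_) i) j
      ext i j : 1
      simp [Par.Δ, δ₀', hδ₀]
    have := congrArg (fun z : L R' => z.coeff k) h1
    simpa [coeff_Lmap] using this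
  let a : Matrix Q.Ix Q.Ix (L R) := Matrix.of fun i j =>
    trunc' (fun k => Q.d j ≤ k) (D' i j) * T (-Q.d j)
  let b : Matrix Q.Ix Q.Ix (L R) := Matrix.of fun i j =>
    trunc' (fun k => k < Q.d j ∧ k ≤ Q.d i) (D' i j) * T (-Q.d i)
  let δ' : Q.Var → R := Sum.elim (fun x => δ₀ x + (D' x.1.1 x.1.2).coeff (x.2 : ℤ)) fun _ => 0
  have hgδ' : ∀ x, g (δ' (Sum.inl x)) = v (Sum.inl x) := fun x => by simp [δ', hδ₀, hD']
  have hdecomp : T' = Q.TT δ' + a * diagT Q.d + diagT Q.d * b := by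
    ext i j : 1
    refine LaurentPolynomial.ext fun k => ?_
    have e1 : T' i j = Q.TT δ₀' i j + D' i j := by simp [D']
    rw [e1]
    simp only [Matrix.add_apply, diagT, Matrix.mul_diagonal, Matrix.diagonal_mul, Matrix.of_apply, a, b]
    rw [mul_comm (T (Q.d i)), mul_assoc, mul_assoc, ← T_add, ← T_add, neg_add_cancel, neg_add_cancel, T_zero,
      mul_one, mul_one]
    simp only [Par.TT, Matrix.add_apply, AddMonoidAlgebra.coeff_add, Finsupp.add_apply, coeff_trunc', Par.Δ,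
      Matrix.of_apply, AddMonoidAlgebra.coeff_sum, Finsupp.finsetSum_apply, coeff_C_mul_T, δ', δ₀', Sum.elim_inl]
    by_cases hk : k ∈ Finset.Ioo (Q.d i) (Q.d j)
    · have hk' := Finset.mem_Ioo.1 hk
      rw [if_neg (by omega), if_neg (by omega)]
      rw [Finset.sum_eq_single ⟨k, hk⟩ (fun l _ hl => if_neg fun e => hl (Subtype.ext e)) (by simp),
        Finset.sum_eq_single ⟨k, hk⟩ (fun l _ hl => if_neg fun e => hl (Subtype.ext e)) (by simp)]
      simp only [if_true]
      abel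
    · rw [Finset.sum_eq_zero fun (l : ↥(Finset.Ioo (Q.d i) (Q.d j))) _ => if_neg fun (e : (l : ℤ) = k) => hk (e ▸ l.2),
        Finset.sum_eq_zero fun (l : ↥(Finset.Ioo (Q.d i) (Q.d j))) _ => if_neg fun (e : (l : ℤ) = k) => hk (e ▸ l.2)]
      rw [Finset.mem_Ioo] at hk
      by_cases hj : Q.d j ≤ k
      · rw [if_pos hj, if_neg (by omega)]; abel
      · rw [if_neg hj, if_pos (by omega)]; abel
  have ha : ∀ i j k, g ((a i j).coeff k) = 0 := fun i j k => by
    simp only [a, Matrix.of_apply, coeff_mul_T, coeff_trunc']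
    split_ifs <;> simp [hD']
  have hb : ∀ i j k, g ((b i j).coeff k) = 0 := fun i j k => by
    simp only [b, Matrix.of_apply, coeff_mul_T, coeff_trunc']
    split_ifs <;> simp [hD']
  have hδn : ∀ i j k, IsNilpotent ((Q.Δ δ' i j).coeff k) := fun i j k => by
    have hv0 : ∀ x, IsNilpotent (δ' (Sum.inl x)) := fun x => by
      obtain ⟨m, hm⟩ := hδ x
      obtain ⟨l, hl⟩ := hnil (δ' (Sum.inl x) ^ m) (by rw [map_pow, hgδ', hm])
      exact ⟨m * l, by rw [pow_mul, hl]⟩
    simp only [Par.Δ, Matrix.of_apply, AddMonoidAlgebra.coeff_sum, Finsupp.finsetSum_apply, coeff_C_mul_T]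
    exact isNilpotent_sum fun l _ => by split_ifs <;> simp [hv0]
  have hzero : ∀ (X Y : Matrix Q.Ix Q.Ix (L R)), (∀ i j k, g ((X i j).coeff k) = 0) →
      (∀ i j k, IsNilpotent ((Y i j).coeff k)) → X * Y = 0 ∧ Y * X = 0 := fun X Y hX hY => by
    constructor <;> ext i j : 1 <;> simp only [Matrix.mul_apply, Matrix.zero_apply] <;>
      refine Finset.sum_eq_zero fun l _ => mul_eq_zero_of_coeff _ _ fun p q => ?_
    · exact hann _ _ (hX i l p) (hY l j q)
    · rw [mul_comm]; exact hann _ _ (hX l j q) (hY i l p)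
  have hbn : ∀ i j k, IsNilpotent ((b i j).coeff k) := fun i j k => hnil _ (hb i j k)
  have han : ∀ i j k, IsNilpotent ((a i j).coeff k) := fun i j k => hnil _ (ha i j k)
  have haa : a * a = 0 := (hzero a a ha han).1
  have haΔ : a * Q.Δ δ' = 0 := (hzero a _ ha hδn).1
  have hΔb : Q.Δ δ' * b = 0 := (hzero b _ hb hδn).2
  have hDb : ∀ i j k, g (((diagT Q.d : Matrix Q.Ix Q.Ix (L R)) * b) i j |>.coeff k) = 0 := fun i j k => by
    simp only [diagT, Matrix.diagonal_mul, T_mul, coeff_mul_T, hb]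
  have haDb : a * (diagT Q.d * b) = 0 := (hzero a _ ha fun i j k => hnil _ (hDb i j k)).1
  have hbb : b * b = 0 := (hzero b b hb hbn).1
  have key : T' * (1 - b) = (1 + a) * Q.TT δ' := by
    have e1 : (1 + a) * Q.TT δ' = Q.TT δ' + a * diagT Q.d := by
      rw [add_mul, one_mul, Par.TT, mul_add, haΔ, add_zero]
    rw [e1, hdecomp]
    have e2 : Q.TT δ' * b = diagT Q.d * b := by rw [Par.TT, add_mul, hΔb, add_zero]
    rw [mul_sub, mul_one, add_mul, add_mul, e2, mul_assoc a, haDb, mul_assoc, hbb, mul_zero]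
    abel
  have hinvA : (1 - a) * (1 + a) = 1 ∧ (1 + a) * (1 - a) = 1 := by
    exact ⟨by rw [sub_mul, one_mul, mul_add, mul_one, haa]; abel, by rw [add_mul, one_mul, mul_sub, mul_one, haa]; abel⟩
  let N : (Q.Ix → L R) ≃ₗ[L R] (Q.Ix → L R) := Matrix.toLin'OfInv hinvA.1 hinvA.2
  let E := N.trans E0
  have hEx : ∀ x, E x = E0 ((1 + a) *ᵥ x) := fun x => rfl
  have hET : ∀ x, E (Q.TT δ' *ᵥ x) = E1 ((1 - b) *ᵥ x) := fun x => by
    rw [hEx, Matrix.mulVec_mulVec, ← key, ← Matrix.mulVec_mulVec, hT']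
  have hal : ∀ i j, Low 0 (a i j) := fun i j k hk => by
    simp only [a, Matrix.of_apply, coeff_mul_T, coeff_trunc']
    rw [if_neg (by omega)]
  have hbh : ∀ i j, High 0 (b i j) := fun i j k hk => by
    simp only [b, Matrix.of_apply, coeff_mul_T, coeff_trunc']
    rw [if_neg (by omega)]
  -- coordinates
  let Z0 : Matrix Q.Ix Q.Ix (L R) := (1 - a) * Y0
  have hZ0 : ∀ i j, Z0 i j ∈ posSub R := fun i j =>
    (posSub R).sum_mem fun l _ => (posSub R).mul_mem (by
      show Low 0 ((1 : Matrix Q.Ix Q.Ix (L R)) i l - a i l)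
      rw [sub_eq_add_neg]; exact (low_matrix_one i l).add (hal i l).neg) (hY0 l j)
  have hE_symm : ∀ y, E.symm y = Z0 *ᵥ V0.symm y := fun y => by
    rw [← Matrix.mulVec_mulVec]; rfl
  have hEsingle : ∀ i p, ((1 + a) * 1 : Matrix Q.Ix Q.Ix (L R)) i p ∈ posSub R := fun i p => by
    rw [mul_one]; exact (low_matrix_one i p).add (hal i p)
  have hEV0 : ∀ i, ∃ x, (∀ p, x p ∈ posSub R) ∧ E (Pi.single i 1) = V0 x := fun i =>
    ⟨Matrix.of X0 *ᵥ ((1 + a) *ᵥ Pi.single i 1), fun p => (posSub R).sum_mem fun l _ =>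
      (posSub R).mul_mem (hX0l p l 0 (hl0' p l)) (by
        rw [Matrix.mulVec_single_one]
        exact (low_matrix_one l i).add (hal l i)), rfl⟩
  let Z1 : Matrix Q.Ix Q.Ix (L R) := (1 + b) * Y1
  have hZ1 : ∀ i j, Z1 i j ∈ negSub R := fun i j =>
    (negSub R).sum_mem fun l _ => (negSub R).mul_mem ((high_matrix_one i l).add (hbh i l)) (hY1 l j)
  have hbinv : (1 + b) * (1 - b) = 1 := by rw [add_mul, one_mul, mul_sub, mul_one, hbb]; abel
  have hbinv' : (1 - b) * (1 + b) = 1 := by rw [sub_mul, one_mul, mul_add, mul_one, hbb]; abel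
  have hTI : ∀ y, Q.TI δ' *ᵥ E.symm y = Z1 *ᵥ V1.symm y := fun y => by
    have h1 : E (Q.TT δ' *ᵥ (Z1 *ᵥ V1.symm y)) = y := by
      rw [hET, ← Matrix.mulVec_mulVec, Matrix.mulVec_mulVec _ (1 - b) (1 + b), hbinv', Matrix.one_mulVec]
      show V1 (Matrix.of X1 *ᵥ (Y1 *ᵥ V1.symm y)) = y
      rw [Matrix.mulVec_mulVec, hXY1, Matrix.one_mulVec, V1.apply_symm_apply]
    conv_lhs => rw [← h1, E.symm_apply_apply, Matrix.mulVec_mulVec, Par.TI_mul_TT, Matrix.one_mulVec]
  have hEV1 : ∀ i, ∃ x, (∀ p, x p ∈ negSub R) ∧ E ((Q.TT δ').col i) = V1 x := fun i => by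
    refine ⟨Matrix.of X1 *ᵥ ((1 - b) *ᵥ Pi.single i 1), fun p => (negSub R).sum_mem fun l _ =>
      (negSub R).mul_mem (hX1h p l 0 (hl1' p l)) (by
        rw [Matrix.mulVec_single_one]
        show High 0 ((1 : Matrix Q.Ix Q.Ix (L R)) l i - b l i)
        rw [sub_eq_add_neg]; exact (high_matrix_one l i).add (hbh l i).neg), ?_⟩
    rw [show (Q.TT δ').col i = Q.TT δ' *ᵥ Pi.single i 1 from (Matrix.mulVec_single_one _ _).symm, hET]
    rfl
  have hrootC : Polynomial.aeval (fun _ : Fin Q.n => z) (Q.P.map (Lmap (algebraMap A₀ R))) = 0 := by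
    funext p
    rw [Polynomial.aeval_pi_apply]
    exact (AdjoinRoot.aeval_eq _).trans AdjoinRoot.mk_self
  obtain ⟨w, hw, hwl, hwc, hwu, hwx⟩ := Q.exists_valid (fun _ : Fin Q.n => z) hrootC δ' E
    (fun i j k => by
      obtain ⟨x, hx, hxe⟩ := hEV0 i
      obtain ⟨y, hy, hye⟩ := hEV0 j
      rw [hE_symm, hxe, hye]
      exact (posSub R).sum_mem fun l _ => (posSub R).mul_mem (hZ0 k l) (copiesEquiv_mul_mem hP hdeg _ _ hW0 hx hy l))
    (fun k => by
      rw [hE_symm]
      exact (posSub R).sum_mem fun l _ => (posSub R).mul_mem (hZ0 k l) (copiesEquiv_one_mem hP hdeg _ _ hW0 l))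
    (fun k => by
      rw [hE_symm]
      exact (posSub R).sum_mem fun l _ => (posSub R).mul_mem (hZ0 k l) (copiesEquiv_root_mem hP hdeg _ _ hW0 l))
    (fun i j k => by
      obtain ⟨x, hx, hxe⟩ := hEV1 i
      obtain ⟨y, hy, hye⟩ := hEV1 j
      rw [hTI, hxe, hye]
      refine (negSub R).sum_mem fun l _ => (negSub R).mul_mem (hZ1 k l) ?_
      show (copiesEquiv Q.n hP hdeg (-(Q.α : ℤ))).symm (φ.symm (φ (copiesEquiv Q.n hP hdeg (-(Q.α : ℤ)) x) * φ _)) l ∈ _
      rw [← map_mul, AlgEquiv.symm_apply_apply]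
      exact copiesEquiv_mul_mem hP hdeg _ _ hW1 hx hy l)
    (fun k => by
      rw [hTI]
      refine (negSub R).sum_mem fun l _ => (negSub R).mul_mem (hZ1 k l) ?_
      show (copiesEquiv Q.n hP hdeg (-(Q.α : ℤ))).symm (φ.symm 1) l ∈ _
      rw [map_one]
      exact copiesEquiv_one_mem hP hdeg _ _ hW1 l)
    (fun k => by
      rw [hTI]
      refine (negSub R).sum_mem fun l _ => (negSub R).mul_mem (hZ1 k l) ?_
      show (copiesEquiv Q.n hP hdeg (-(Q.α : ℤ))).symm (φ.symm ((T (-(Q.α : ℤ)) : L R) • fun _ => z)) l ∈ _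
      have : φ ((T (-(Q.α : ℤ)) : L R) • fun _ : Fin Q.n => z) = (T (-(Q.α : ℤ)) : L R) • fun _ : Fin Q.n => z := by
        rw [map_smul]
        congr 1
        funext p
        rw [twistEquiv_apply]
        ring
      rw [← this, AlgEquiv.symm_apply_apply]
      exact copiesEquiv_root_mem hP hdeg _ _ hW1 l)
  have hga : (1 + a).map (Lmap g.toRingHom) = 1 := by
    ext i j : 1
    simp only [Matrix.map_apply, Matrix.add_apply, map_add, Matrix.one_apply, apply_ite (Lmap g.toRingHom), map_one,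
      map_zero]
    rw [show Lmap g.toRingHom (a i j) = 0 from LaurentPolynomial.ext fun k => by simp [coeff_Lmap, ha], add_zero]
  have hΨE : ∀ x, h.tab.coord (Ψ (E x)) = fun p => Lmap g.toRingHom (x p) := fun x => by
    rw [hEx, hΨE0, hgX, hga, Matrix.one_mulVec]
  have hΨsymm : ∀ y k, Lmap g.toRingHom (E.symm y k) = h.tab.coord (Ψ y) k := fun y k => by
    have := congrFun (hΨE (E.symm y)) k
    rw [E.apply_symm_apply] at this
    exact this.symm
  have hgsingle : ∀ i, Ψ (E (Pi.single i 1)) = h.tab.e i := fun i => Tab.ext _ fun k => by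
    rw [hΨE]
    simp [Pi.single_apply, apply_ite (Lmap g.toRingHom)]
  refine ⟨w, hw, Par.var_ext (hw.map g) h (fun x => ?_) (fun i j k => ?_) (fun k => ?_) fun k => ?_⟩
  · show g (w (Sum.inl x)) = _
    rw [hwl, hgδ']
  · rw [show Q.c0 (g ∘ w) i j k = Lmap g.toRingHom (Q.c0 w i j k) from (Par.Lmap_c0 w g.toRingHom i j k).symm, hwc,
      hΨsymm, map_mul, hgsingle, hgsingle, Tab.coord_e_mul_e]
    rfl
  · rw [show Q.u0 (g ∘ w) k = Lmap g.toRingHom (Q.u0 w k) from (Par.Lmap_u0 w g.toRingHom k).symm, hwu,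
      hΨsymm, map_one]
    rfl
  · rw [show Q.x0 (g ∘ w) k = Lmap g.toRingHom (Q.x0 w k) from (Par.Lmap_x0 w g.toRingHom k).symm, hwx,
      hΨsymm, hΨs, Lmap_T]
    have : Ψ (fun _ : Fin Q.n => z) = h.z := by
      show ∑ a, F.e a * ψ z = _
      rw [← Finset.sum_mul, F.complete.complete, one_mul, hψz]
    rw [this, ← Par.Valid.coord_X0, Par.Valid.X0, Algebra.smul_def]

end Groth.Agent.PBC51.Loop
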