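import Groth.Agent.PBC51.Loop.Lifted
import Groth.Agent.Cons51.IdemAIC
import Mathlib.FieldTheory.IsAlgClosed.AlgebraicClosure
import Mathlib.RingTheory.Ideal.GoingUp

/-!
Sections of finite algebras over rings with roots and idempotent supports.
-/

set_option autoImplicit false
set_option linter.unusedSectionVars false

namespace Groth.Agent.PBC51.Loop

universe u

open Polynomial Groth.Agent.Cons51
open Groth.Agent.LimTop61 (HasRoots)

/-- Extension of ring maps to algebraically closed fields along integral extensions. -/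
theorem exists_extension {B C : Type u} [CommRing B] [CommRing C] [Algebra B C] [Algebra.IsIntegral B C]
    (hinj : Function.Injective (algebraMap B C)) {K : Type u} [Field K] [IsAlgClosed K] (ρ : B →+* K) :
    ∃ χ : C →+* K, ∀ b : B, χ (algebraMap B C b) = ρ b := by
  classical
  let P0 := RingHom.ker ρ
  have : P0.IsPrime := RingHom.ker_isPrime _
  have hker : RingHom.ker (algebraMap B C) ≤ P0 := fun b hb => by
    have : b = 0 := hinj (hb.trans (map_zero _).symm)
    rw [this]; exact P0.zero_mem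
  obtain ⟨P, -, hP, hP0⟩ := Ideal.exists_ideal_over_prime_of_isIntegral P0 (⊥ : Ideal C) hker
  have : P.LiesOver P0 := ⟨hP0.symm⟩
  let ρ' : B ⧸ P0 →+* K := Ideal.Quotient.lift P0 ρ fun _ h => h
  have hρ' : Function.Injective ρ' := by
    rw [RingHom.injective_iff_ker_eq_bot, Ideal.ker_quotient_lift ρ (fun _ h => h), Ideal.map_quotient_self]
  let := ρ'.toAlgebra
  have : Module.IsTorsionFree (B ⧸ P0) K :=
    Module.isTorsionFree_iff_algebraMap_injective.2 hρ'
  have : IsDomain (C ⧸ P) := Ideal.Quotient.isDomain P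
  have : IsDomain (B ⧸ P0) := Ideal.Quotient.isDomain P0
  have : Algebra.IsIntegral (B ⧸ P0) (C ⧸ P) := Algebra.IsIntegral.tower_top (R := B)
  have : Algebra.IsAlgebraic (B ⧸ P0) (C ⧸ P) := Algebra.IsIntegral.isAlgebraic
  have : Module.IsTorsionFree (B ⧸ P0) (C ⧸ P) :=
    Module.isTorsionFree_iff_algebraMap_injective.2 <| (injective_iff_map_eq_zero _).2 fun x hx => by
      obtain ⟨b, rfl⟩ := Ideal.Quotient.mk_surjective x
      refine Ideal.Quotient.eq_zero_iff_mem.2 (hP0 ▸ Ideal.mem_comap.2 ?_)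
      exact Ideal.Quotient.eq_zero_iff_mem.1 hx
  have key : ∀ σ : C ⧸ P →ₐ[B ⧸ P0] K, ∀ b : B, σ (Ideal.Quotient.mk P (algebraMap B C b)) = ρ b :=
    fun σ b => σ.commutes (Ideal.Quotient.mk P0 b)
  obtain ⟨σ⟩ : Nonempty (C ⧸ P →ₐ[B ⧸ P0] K) := ⟨IsAlgClosed.lift⟩
  exact ⟨RingHom.comp (σ : C ⧸ P →+* K) (Ideal.Quotient.mk P), key σ⟩

variable {R : Type u} [CommRing R]

theorem IdemAIC.supp_eq_zero (hR : IdemAIC R) {t y : R} {e : R}
    (he : ∀ b, t * b = 0 → e * b = 0) (hee : IsIdempotentElem e) : ∀ k : ℕ, t ^ k * y = 0 → e * y = 0 := by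
  intro k
  induction k generalizing y with
  | zero => intro h; rw [pow_zero, one_mul] at h; rw [h, mul_zero]
  | succ k ih =>
    intro h
    have h1 : e * (t ^ k * y) = 0 := he _ (by rw [← mul_assoc, ← pow_succ', h])
    have h2 : e * (e * y) = 0 := ih (by rw [← h1]; ring)
    rwa [← mul_assoc, hee.eq] at h2

variable {R' : Type u} [CommRing R'] (i : R →+* R')

/-- Idempotents of a localisation lift. -/
theorem idem_mem_range (hR : IdemAIC R) (t : R) (hunit : IsUnit (i t))
    (hsurj : ∀ x : R', ∃ (N : ℕ) (a : R), i t ^ N * x = i a)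
    (hker : ∀ a : R, i a = 0 → ∃ N : ℕ, t ^ N * a = 0) {e : R'} (he : IsIdempotentElem e) :
    e ∈ Set.range i := by
  obtain ⟨N, a, ha⟩ := hsurj e
  obtain ⟨E, hE, hEa, hEz⟩ := hR.supp (t * a)
  have h0 : i (a * (a - t ^ N)) = 0 := by
    rw [map_mul, map_sub, map_pow, ← ha]
    linear_combination (i t ^ N) ^ 2 * he.eq
  obtain ⟨K, hK⟩ := hker _ h0
  have h1 : E * (t ^ K * (a - t ^ N)) = 0 := hEz _ (by linear_combination t * hK)
  have h2 : i E * (i t ^ K * (i t ^ N * e - i t ^ N)) = 0 := by
    have := congrArg i h1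
    rwa [map_mul, map_mul, map_sub, map_pow, map_pow, ← ha, map_zero] at this
  have h3 : i E * (i t * (i t ^ N * e)) = i t * (i t ^ N * e) := by
    rw [ha, ← map_mul, ← map_mul, hEa]
  refine ⟨E, ?_⟩
  have h4 : (i E * e - i E) = 0 := ((hunit.pow (K + N)).mul_right_eq_zero).1 (by rw [pow_add]; linear_combination h2)
  have h5 : i E * e - e = 0 := ((hunit.pow (N + 1)).mul_right_eq_zero).1 (by rw [pow_succ]; linear_combination h3)
  linear_combination h5 - h4

/-- Roots of monic polynomials lie in the image. -/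
theorem mem_range_of_monic (hR : HasRoots R) (hR' : IdemAIC R')
    (hidem : ∀ e : R', IsIdempotentElem e → e ∈ Set.range i) :
    ∀ (P : R[X]), P.Monic → ∀ (E u : R'), IsIdempotentElem E → E * P.eval₂ i u = 0 → E * u ∈ i.range := by
  intro P
  induction hn : P.natDegree using Nat.strong_induction_on generalizing P with
  | _ n ih =>
    intro hP E u hE hu
    by_cases h0 : P.natDegree = 0
    · rw [hP.natDegree_eq_zero.1 h0, eval₂_one, mul_one] at hu
      rw [hu, zero_mul]
      exact i.range.zero_mem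
    rcases subsingleton_or_nontrivial R with hs | hs
    · refine ⟨0, ?_⟩
      have : (1 : R') = 0 := by rw [← map_one i, Subsingleton.elim (1 : R) 0, map_zero]
      rw [map_zero, ← one_mul (E * u), this, zero_mul]
    obtain ⟨a, ha⟩ := hR P hP h0
    obtain ⟨Q, rfl⟩ := dvd_iff_isRoot.2 ha
    have hQ : Q.Monic := (monic_X_sub_C a).of_mul_monic_left hP
    rw [eval₂_mul, eval₂_sub, eval₂_X, eval₂_C] at hu
    obtain ⟨w, hw, hwa, hwz⟩ := hR'.supp (u - i a)
    have h1 : w * E * Q.eval₂ i u = 0 := by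
      have := hwz (E * Q.eval₂ i u) (by linear_combination hu)
      linear_combination this
    have h2 : w * E * u ∈ i.range := ih Q.natDegree (by
      rw [← hn, (monic_X_sub_C a).natDegree_mul hQ, natDegree_X_sub_C]; omega) Q rfl hQ (w * E) u (hw.mul hE) h1
    obtain ⟨p, hp⟩ := h2
    obtain ⟨q, hq⟩ := hidem _ (hE.mul hw.one_sub)
    refine ⟨p + q * a, ?_⟩
    rw [map_add, map_mul, hp, hq]
    linear_combination E * hwa

/-- A homomorphism from a finite algebra on structure constants into a ring with roots and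
idempotent supports, extending a given map of the coefficients and a value of one element. -/
theorem exists_hom {P : Type u} [CommRing P] {ι : Type} [Fintype ι] [DecidableEq ι] (τ : Tab P ι)
    (hR : IdemAIC R) (φ : P →+* R) (z : τ.Alg) (e : R)
    (hinj : ∀ q : P[X], aeval z q = 0 → q.eval₂ φ e = 0) :
    ∃ σ : τ.Alg →+* R, (∀ a, σ (algebraMap P τ.Alg a) = φ a) ∧ σ z = e := by
  classical
  let Good : R → (ι → R) → Prop := fun E r =>
    IsIdempotentElem E ∧ (∀ i j, E * (r i * r j - ∑ k, φ (τ.c i j k) * r k) = 0) ∧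
      E * ((∑ i, φ (τ.u i) * r i) - 1) = 0 ∧ E * ((∑ i, φ (τ.coord z i) * r i) - e) = 0
  have hloc : ∀ x : PrimeSpectrum R, ∃ E r, Good E r ∧ E ∉ x.asIdeal := by
    intro x
    let I := idemIdeal x.asIdeal
    have hI : I.IsPrime := hR.isPrime x.asIdeal
    let R₁ := R ⧸ I
    let π : R →+* R₁ := Ideal.Quotient.mk I
    let K := AlgebraicClosure (FractionRing R₁)
    let j : R₁ →+* K := (algebraMap (FractionRing R₁) K).comp (algebraMap R₁ (FractionRing R₁))
    have hj : Function.Injective j :=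
      (algebraMap (FractionRing R₁) K).injective.comp (IsFractionRing.injective R₁ (FractionRing R₁))
    let ev : P[X] →+* τ.Alg := (aeval z).toRingHom
    let ev' : P[X] →+* K := eval₂RingHom ((j.comp π).comp φ) (j (π e))
    let B : Subring τ.Alg := ev.range
    have : Algebra.IsIntegral B τ.Alg := ⟨fun c => by
      obtain ⟨q, hq, hqc⟩ := IsIntegral.of_finite P c
      let f : P →+* B := ev.rangeRestrict.comp Polynomial.C
      refine ⟨q.map f, hq.map _, ?_⟩
      rw [eval₂_map]
      refine (congrArg (fun F => eval₂ F c q) (RingHom.ext fun a => ?_)).trans hqc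
      show (aeval z) (Polynomial.C a) = _
      exact aeval_C z a⟩
    have hev : ∀ q, ev q = 0 → ev' q = 0 := fun q hq => by
      show eval₂ ((j.comp π).comp φ) (j (π e)) q = 0
      have := congrArg (j.comp π) (hinj q hq)
      rw [hom_eval₂, map_zero] at this
      exact this
    let ρ : B →+* K := (RingHom.liftOfSurjective ev.rangeRestrict ev.rangeRestrict_surjective)
      ⟨ev', fun q hq => hev q (congrArg Subtype.val hq)⟩
    have hρ : ∀ q, ρ (ev.rangeRestrict q) = ev' q := fun q =>
      RingHom.liftOfRightInverse_comp_apply _ _ _ _ q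
    obtain ⟨χ, hχ⟩ : ∃ χ : τ.Alg →+* K, ∀ b : B, χ b = ρ b :=
      exists_extension (B := B) (C := τ.Alg) Subtype.val_injective ρ
    have hχa : ∀ a, χ (algebraMap P τ.Alg a) = j (π (φ a)) := fun a => by
      rw [show algebraMap P τ.Alg a = ((ev.rangeRestrict (Polynomial.C a)) : τ.Alg) from (aeval_C z a).symm]
      refine (hχ _).trans ((hρ _).trans ?_)
      simp [ev']
    have hχz : χ z = j (π e) := by
      rw [show z = ((ev.rangeRestrict Polynomial.X) : τ.Alg) from (aeval_X z).symm]
      refine (hχ _).trans ((hρ _).trans ?_)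
      simp [ev']
    have hvals : ∀ i, ∃ r : R, j (π r) = χ (τ.e i) := fun i => by
      let := j.toAlgebra
      obtain ⟨q, hq, hqi⟩ := IsIntegral.of_finite P (τ.e i)
      have hint : IsIntegral R₁ (χ (τ.e i)) := by
        refine ⟨q.map (π.comp φ), hq.map _, ?_⟩
        rw [eval₂_map]
        have := congrArg χ hqi
        rw [hom_eval₂, map_zero] at this
        refine (congrArg (fun F => eval₂ F (χ (τ.e i)) q) (RingHom.ext fun a => ?_)).trans this
        exact (hχa a).symm
      obtain ⟨y, hy⟩ := (hasRoots_of_surjective π Ideal.Quotient.mk_surjective hR.roots).mem_range_of_isIntegral hint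
      obtain ⟨r, rfl⟩ := Ideal.Quotient.mk_surjective y
      exact ⟨r, hy⟩
    choose r hr using hvals
    have hcoord : ∀ c : τ.Alg, χ c = j (π (∑ k, φ (τ.coord c k) * r k)) := fun c => by
      conv_lhs => rw [τ.eq_sum_e c]
      simp only [Algebra.smul_def, map_sum, map_mul, hχa, ← hr]
    have hmem : ∀ F : R, j (π F) = 0 → F ∈ I := fun F hF =>
      Ideal.Quotient.eq_zero_iff_mem.1 (hj (hF.trans (map_zero j).symm))
    have hsupp : ∀ F ∈ I, ∃ E, IsIdempotentElem E ∧ E ∈ x.asIdeal ∧ E * F = F := fun F hF => hF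
    have m1 : ∀ i j', r i * r j' - ∑ k, φ (τ.c i j' k) * r k ∈ I := fun i j' => hmem _ (by
      have h1 := hcoord (τ.e i * τ.e j')
      rw [map_mul] at h1
      simp only [Tab.coord_e_mul_e] at h1
      rw [map_sub, map_sub, sub_eq_zero, ← h1, map_mul, map_mul, hr, hr])
    have m2 : (∑ i, φ (τ.u i) * r i) - 1 ∈ I := hmem _ (by
      have h1 := hcoord 1
      rw [map_one, Tab.coord_one] at h1
      rw [map_sub, map_sub, sub_eq_zero, ← h1, map_one, map_one])
    have m3 : (∑ i, φ (τ.coord z i) * r i) - e ∈ I := hmem _ (by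
      rw [map_sub, map_sub, sub_eq_zero, ← hcoord, hχz])
    choose E1 hE1 hE1x hE1F using fun p : ι × ι => hsupp _ (m1 p.1 p.2)
    obtain ⟨E2, hE2, hE2x, hE2F⟩ := hsupp _ m2
    obtain ⟨E3, hE3, hE3x, hE3F⟩ := hsupp _ m3
    let E := (∏ p, (1 - E1 p)) * (1 - E2) * (1 - E3)
    have hnot : ∀ {w : R}, w ∈ x.asIdeal → 1 - w ∉ x.asIdeal := fun hw h1 =>
      x.2.ne_top ((Ideal.eq_top_iff_one _).2 (by simpa using x.asIdeal.add_mem h1 hw))
    refine ⟨E, r, ⟨?_, fun i j' => ?_, ?_, ?_⟩, ?_⟩
    · exact ((Finset.prod_induction _ IsIdempotentElem (fun _ _ => IsIdempotentElem.mul) IsIdempotentElem.one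
        fun p _ => (hE1 p).one_sub).mul hE2.one_sub).mul hE3.one_sub
    · have : (∏ p, (1 - E1 p)) * (r i * r j' - ∑ k, φ (τ.c i j' k) * r k) = 0 := by
        rw [← Finset.mul_prod_erase _ _ (Finset.mem_univ (i, j'))]
        linear_combination (-(∏ p ∈ Finset.univ.erase (i, j'), (1 - E1 p))) * hE1F (i, j')
      linear_combination ((1 - E2) * (1 - E3)) * this
    · linear_combination (-((∏ p, (1 - E1 p)) * (1 - E3))) * hE2F
    · linear_combination (-((∏ p, (1 - E1 p)) * (1 - E2))) * hE3F
    · intro hEx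
      rcases x.2.mem_or_mem hEx with h1 | h1
      · rcases x.2.mem_or_mem h1 with h2 | h2
        · obtain ⟨p, -, hp⟩ := (Ideal.IsPrime.prod_mem_iff (hp := x.2)).1 h2
          exact hnot (hE1x p) hp
        · exact hnot hE2x h2
      · exact hnot hE3x h1
  choose E r hG hEx using hloc
  obtain ⟨s, hs⟩ := isCompact_univ.elim_finite_subcover (fun x => (PrimeSpectrum.basicOpen (E x) : Set (PrimeSpectrum R)))
    (fun x => (PrimeSpectrum.basicOpen (E x)).2) fun x _ => Set.mem_iUnion.2 ⟨x, hEx x⟩
  have hfold : ∀ t : Finset (PrimeSpectrum R), ∃ E' r', Good E' r' ∧ 1 - E' = ∏ x ∈ t, (1 - E x) := by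
    intro t
    induction t using Finset.induction with
    | empty => exact ⟨0, 0, ⟨IsIdempotentElem.zero, by simp, by simp, by simp⟩, by simp⟩
    | insert x t hxt ih =>
      obtain ⟨E', r', ⟨hE', a1, a2, a3⟩, hp⟩ := ih
      obtain ⟨hEi, b1, b2, b3⟩ := hG x
      refine ⟨E x + (1 - E x) * E', fun k => E x * r x k + (1 - E x) * r' k, ⟨?_, fun i j => ?_, ?_, ?_⟩, ?_⟩
      · have h1 : E x * E x = E x := hEi
        have h2 : E' * E' = E' := hE'
        show _ * _ = _
        linear_combination (1 - 2 * E' + E' * E') * h1 + (1 - E x) * h2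
      · have h1 : E x * E x = E x := hEi
        have b := b1 i j
        have a := a1 i j
        simp only [mul_sub, Finset.mul_sum] at a b ⊢
        have hs : ∀ (c : R) (k : ι), c * (φ (τ.c i j k) * (E x * r x k + (1 - E x) * r' k)) =
            c * E x * (φ (τ.c i j k) * r x k) + c * (1 - E x) * (φ (τ.c i j k) * r' k) := fun c k => by ring
        simp only [hs, Finset.sum_add_distrib, ← Finset.mul_sum] at a b ⊢
        linear_combination b + (1 - E x) * a +
          ((1 - E') * (r x i * r x j - (∑ k, φ (τ.c i j k) * r x k) - r' i * r' j + (∑ k, φ (τ.c i j k) * r' k)) +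
            (E x + (1 - E x) * E') * (r x i * r x j - r x i * r' j - r' i * r x j + r' i * r' j)) * h1
      · have h1 : E x * E x = E x := hEi
        have hs : ∀ k, φ (τ.u k) * (E x * r x k + (1 - E x) * r' k) =
            E x * (φ (τ.u k) * r x k) + (1 - E x) * (φ (τ.u k) * r' k) := fun k => by ring
        simp only [hs, Finset.sum_add_distrib, ← Finset.mul_sum]
        linear_combination b2 + (1 - E x) * a2 +
          ((1 - E') * ((∑ k, φ (τ.u k) * r x k) - (∑ k, φ (τ.u k) * r' k))) * h1
      · have h1 : E x * E x = E x := hEi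
        have hs : ∀ k, φ (τ.coord z k) * (E x * r x k + (1 - E x) * r' k) =
            E x * (φ (τ.coord z k) * r x k) + (1 - E x) * (φ (τ.coord z k) * r' k) := fun k => by ring
        simp only [hs, Finset.sum_add_distrib, ← Finset.mul_sum]
        linear_combination b3 + (1 - E x) * a3 +
          ((1 - E') * ((∑ k, φ (τ.coord z k) * r x k) - (∑ k, φ (τ.coord z k) * r' k))) * h1
      · rw [Finset.prod_insert hxt, ← hp]
        ring
  obtain ⟨E', r', ⟨hE', a1, a2, a3⟩, hp⟩ := hfold s
  have h1 : E' = 1 := by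
    have hnil : IsNilpotent (∏ x ∈ s, (1 - E x)) := by
      rw [nilpotent_iff_mem_prime]
      intro J hJ
      obtain ⟨x, hx, hxJ⟩ := Set.mem_iUnion₂.1 (hs (Set.mem_univ (⟨J, hJ⟩ : PrimeSpectrum R)))
      refine Ideal.mem_of_dvd J (Finset.dvd_prod_of_mem _ hx) ?_
      have : E x * (1 - E x) ∈ J := by rw [(hG x).1.mul_one_sub_self]; exact J.zero_mem
      exact (hJ.mem_or_mem this).resolve_left hxJ
    rw [← hp] at hnil
    exact sub_eq_zero.1 ((hE'.one_sub.eq_zero_of_isNilpotent hnil).symm ▸ rfl : (1 : R) - E' = 0) |>.symm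
  rw [h1, one_mul, sub_eq_zero] at a2 a3
  let := φ.toAlgebra
  let σ := τ.lift (Q := R) r' (fun i j => by
    have := a1 i j
    rw [h1, one_mul, sub_eq_zero] at this
    exact this) a2
  refine ⟨σ.toRingHom, fun a => σ.commutes a, ?_⟩
  show Fintype.linearCombination P r' (τ.coord z) = e
  rw [Fintype.linearCombination_apply]
  exact a3

end Groth.Agent.PBC51.Loop
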