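import Groth.Agent.PBC51.Loop.Birkhoff

/-!
Diagonal monomial matrices perturbed strictly above the diagonal in the order of the exponents.
-/

set_option autoImplicit false
set_option linter.unusedSectionVars false

namespace Groth.Agent.PBC51.Loop

universe u

open LaurentPolynomial Matrix

variable {R S : Type u} [CommRing R] [CommRing S] {ι : Type} [Fintype ι] [DecidableEq ι] (d : ι → ℤ)

/-- The diagonal matrix of monomials. -/
noncomputable def diagT : Matrix ι ι (L R) := diagonal fun i => T (d i)

/-- The inverse diagonal matrix of monomials. -/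
noncomputable def diagT' : Matrix ι ι (L R) := diagonal fun i => T (-d i)

theorem diagT_mul_diagT' : diagT d * diagT' d = (1 : Matrix ι ι (L R)) := by
  simp [diagT, diagT', ← T_add, -T_mul]

/-- Truncated geometric series. -/
noncomputable def triInv (Δ : Matrix ι ι (L R)) : Matrix ι ι (L R) :=
  (∑ k ∈ Finset.range (Fintype.card ι + 1), (-(diagT' d * Δ)) ^ k) * diagT' d

/-- Supported above the diagonal. -/
def Upper (Δ : Matrix ι ι (L R)) : Prop := ∀ i j, ¬ d i < d j → Δ i j = 0

variable {d}

theorem Upper.pow_apply {Y : Matrix ι ι (L R)} (hY : Upper d Y) (k : ℕ) :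
    ∀ i j, (Y ^ k) i j ≠ 0 → (Finset.univ.filter fun l => d l < d i).card + k ≤
      (Finset.univ.filter fun l => d l < d j).card := by
  induction k with
  | zero =>
    intro i j h
    rw [pow_zero] at h
    rcases eq_or_ne i j with rfl | hij
    · simp
    · exact absurd (Matrix.one_apply_ne hij) h
  | succ k ih =>
    intro i j h
    rw [pow_succ, Matrix.mul_apply] at h
    obtain ⟨l, -, hl⟩ := Finset.exists_ne_zero_of_sum_ne_zero h
    have h1 : (Y ^ k) i l ≠ 0 := left_ne_zero_of_mul hl
    have h2 : Y l j ≠ 0 := right_ne_zero_of_mul hl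
    have hlj : d l < d j := by
      by_contra hc
      exact h2 (hY l j hc)
    have hsub : (Finset.univ.filter fun a => d a < d l) ⊂ (Finset.univ.filter fun a => d a < d j) := by
      refine Finset.ssubset_iff_of_subset (fun a ha => ?_) |>.2 ⟨l, by simpa using hlj, by simp⟩
      simp only [Finset.mem_filter, Finset.mem_univ, true_and] at ha ⊢
      omega
    have := ih i l h1
    have := Finset.card_lt_card hsub
    omega

theorem Upper.pow_card_eq_zero {Y : Matrix ι ι (L R)} (hY : Upper d Y) : Y ^ (Fintype.card ι + 1) = 0 := by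
  refine Matrix.ext fun i j => ?_
  by_contra h
  have := hY.pow_apply _ i j h
  have := Finset.card_le_univ (Finset.univ.filter fun l => d l < d j)
  omega

theorem Upper.inv_mul {Δ : Matrix ι ι (L R)} (hΔ : Upper d Δ) : (diagT d + Δ) * triInv d Δ = 1 := by
  let Y := -(diagT' d * Δ)
  have hY : Upper d Y := fun i j h => by
    simp [Y, diagT', Matrix.diagonal_mul, hΔ i j h]
  have e : diagT d + Δ = diagT d * (1 - Y) := by
    simp only [Y, sub_neg_eq_add, mul_add, mul_one, ← mul_assoc, diagT_mul_diagT', one_mul]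
  rw [triInv, e, mul_assoc, ← mul_assoc (1 - Y), mul_neg_geom_sum, hY.pow_card_eq_zero, sub_zero, one_mul,
    diagT_mul_diagT']

theorem Upper.mul_inv {Δ : Matrix ι ι (L R)} (hΔ : Upper d Δ) : triInv d Δ * (diagT d + Δ) = 1 :=
  mul_eq_one_comm.1 hΔ.inv_mul

theorem map_diagT (g : R →+* S) : (diagT d : Matrix ι ι (L R)).map (Lmap g) = diagT d := by
  simp [diagT, Matrix.diagonal_map (map_zero (Lmap g)), Lmap_T]

theorem map_diagT' (g : R →+* S) : (diagT' d : Matrix ι ι (L R)).map (Lmap g) = diagT' d := by
  simp [diagT', Matrix.diagonal_map (map_zero (Lmap g)), Lmap_T]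

theorem map_triInv (g : R →+* S) (Δ : Matrix ι ι (L R)) :
    (triInv d Δ).map (Lmap g) = triInv d (Δ.map (Lmap g)) := by
  simp only [triInv, ← RingHom.mapMatrix_apply, map_mul, map_sum, map_pow, map_neg]
  simp only [RingHom.mapMatrix_apply, map_diagT']

/-- Low and high bounds for products. -/
theorem low_matrix_pow {a : ℤ} {M : Matrix ι ι (L R)} (hM : ∀ i j, Low a (M i j)) (k : ℕ) (i j : ι) :
    Low (k * a) ((M ^ k) i j) := by
  induction k generalizing i j with
  | zero => simpa using low_matrix_one i j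
  | succ k ih =>
    rw [pow_succ]
    simpa [add_mul] using low_matrix_mul ih hM i j

theorem high_matrix_pow {a : ℤ} {M : Matrix ι ι (L R)} (hM : ∀ i j, High a (M i j)) (k : ℕ) (i j : ι) :
    High (k * a) ((M ^ k) i j) := by
  induction k generalizing i j with
  | zero => simpa using high_matrix_one i j
  | succ k ih =>
    rw [pow_succ]
    simpa [add_mul] using high_matrix_mul ih hM i j

/-- A uniform bound for the inverse. -/
theorem bound_triInv {m : ℕ} (hd : ∀ i, -(m : ℤ) ≤ d i ∧ d i ≤ m) {Δ : Matrix ι ι (L R)}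
    (hl : ∀ i j, Low (-(m : ℤ)) (Δ i j)) (hh : ∀ i j, High (m : ℤ) (Δ i j)) (i j : ι) :
    Low (-((2 * Fintype.card ι + 3) * m : ℕ) : ℤ) (triInv d Δ i j) ∧
      High (((2 * Fintype.card ι + 3) * m : ℕ) : ℤ) (triInv d Δ i j) := by
  have hl' : ∀ i j, Low (-(m : ℤ)) ((diagT' d : Matrix ι ι (L R)) i j) := fun i j => by
    simp only [diagT', Matrix.diagonal_apply]
    split_ifs
    · exact low_T (by linarith [hd i])
    · exact low_zero
  have hh' : ∀ i j, High (m : ℤ) ((diagT' d : Matrix ι ι (L R)) i j) := fun i j => by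
    simp only [diagT', Matrix.diagonal_apply]
    split_ifs
    · exact high_T (by linarith [hd i])
    · exact high_zero
  constructor
  · refine Low.sum fun l _ => ?_
    simp only [Matrix.sum_apply, Finset.sum_mul]
    refine Low.sum fun k hk => ?_
    have h1 : ∀ i j, Low (-(m : ℤ) + -(m : ℤ)) ((-((diagT' d : Matrix ι ι (L R)) * Δ) : Matrix ι ι (L R)) i j) := fun i j =>
      (low_matrix_mul hl' hl i j).neg
    refine ((low_matrix_pow h1 k i l).mul (hl' l j)).mono ?_
    have hk' : (k : ℤ) ≤ Fintype.card ι := by exact_mod_cast Nat.lt_succ_iff.1 (Finset.mem_range.1 hk)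
    push_cast
    nlinarith
  · refine High.sum fun l _ => ?_
    simp only [Matrix.sum_apply, Finset.sum_mul]
    refine High.sum fun k hk => ?_
    have h1 : ∀ i j, High ((m : ℤ) + (m : ℤ)) ((-((diagT' d : Matrix ι ι (L R)) * Δ) : Matrix ι ι (L R)) i j) := fun i j =>
      (high_matrix_mul hh' hh i j).neg
    refine ((high_matrix_pow h1 k i l).mul (hh' l j)).mono ?_
    have hk' : (k : ℤ) ≤ Fintype.card ι := by exact_mod_cast Nat.lt_succ_iff.1 (Finset.mem_range.1 hk)
    push_cast
    nlinarith

end Groth.Agent.PBC51.Loop
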