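import Groth.Agent.PBC51.Loop.Table
import Groth.Agent.PBC51.Loop.Triangular
import Mathlib.RingTheory.FinitePresentation
import Mathlib.RingTheory.Polynomial.Basic
import Mathlib.Algebra.Polynomial.AlgebraMap
import Mathlib.Data.Int.Interval

/-!
The parameter space of finite algebras over a curve over the projective line, presented on two charts.
-/

set_option autoImplicit false
set_option linter.unusedSectionVars false

namespace Groth.Agent.PBC51.Loop

universe u

open LaurentPolynomial Matrix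

/-- Degree at most `K` with nonnegative exponents. -/
noncomputable def serPos {R : Type u} [CommRing R] {K : ℕ} (a : Fin (K + 1) → R) : L R :=
  ∑ m, C (a m) * T (m : ℤ)

/-- Degree at most `K` with nonpositive exponents. -/
noncomputable def serNeg {R : Type u} [CommRing R] {K : ℕ} (a : Fin (K + 1) → R) : L R :=
  ∑ m, C (a m) * T (-(m : ℤ))

section Ser

variable {R S : Type u} [CommRing R] [CommRing S] {K : ℕ}

theorem low_serPos (a : Fin (K + 1) → R) : Low 0 (serPos a) :=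
  Low.sum fun m _ => by simpa using (low_C (a m)).mul (low_T (R := R) (a := 0) (m := (m : ℤ)) (by omega))

theorem high_serNeg (a : Fin (K + 1) → R) : High 0 (serNeg a) :=
  High.sum fun m _ => by simpa using (high_C (a m)).mul (high_T (R := R) (a := 0) (m := -(m : ℤ)) (by omega))

theorem Lmap_serPos (g : R →+* S) (a : Fin (K + 1) → R) : Lmap g (serPos a) = serPos fun m => g (a m) := by
  simp [serPos, Lmap_C, Lmap_T]

theorem Lmap_serNeg (g : R →+* S) (a : Fin (K + 1) → R) : Lmap g (serNeg a) = serNeg fun m => g (a m) := by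
  simp [serNeg, Lmap_C, Lmap_T]

theorem coeff_serPos (a : Fin (K + 1) → R) (m : Fin (K + 1)) : (serPos a).coeff m = a m := by
  simp only [serPos, AddMonoidAlgebra.coeff_sum, Finsupp.finsetSum_apply, coeff_C_mul_T]
  rw [Finset.sum_eq_single m] <;> simp +contextual [Fin.val_inj]

theorem coeff_serNeg (a : Fin (K + 1) → R) (m : Fin (K + 1)) : (serNeg a).coeff (-(m : ℤ)) = a m := by
  simp only [serNeg, AddMonoidAlgebra.coeff_sum, Finsupp.finsetSum_apply, coeff_C_mul_T]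
  rw [Finset.sum_eq_single m] <;> simp +contextual [Fin.val_inj]

theorem serPos_coeff {x : L R} (h0 : Low 0 x) (hK : High (K : ℤ) x) :
    serPos (fun m : Fin (K + 1) => x.coeff (m : ℤ)) = x := by
  refine LaurentPolynomial.ext fun k => ?_
  by_cases h : 0 ≤ k ∧ k ≤ K
  · obtain ⟨m, rfl⟩ : ∃ m : Fin (K + 1), (m : ℤ) = k := ⟨⟨k.toNat, by omega⟩, by simp; omega⟩
    exact coeff_serPos _ _
  · simp only [serPos, AddMonoidAlgebra.coeff_sum, Finsupp.finsetSum_apply, coeff_C_mul_T]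
    rw [Finset.sum_eq_zero fun m _ => if_neg ?_]
    · rcases lt_or_ge k 0 with hk | hk
      · exact (h0 k hk).symm
      · exact (hK k (by omega)).symm
    · have := m.2
      omega

theorem serNeg_coeff {x : L R} (h0 : High 0 x) (hK : Low (-(K : ℤ)) x) :
    serNeg (fun m : Fin (K + 1) => x.coeff (-(m : ℤ))) = x := by
  refine LaurentPolynomial.ext fun k => ?_
  by_cases h : k ≤ 0 ∧ -(K : ℤ) ≤ k
  · obtain ⟨m, rfl⟩ : ∃ m : Fin (K + 1), -(m : ℤ) = k := ⟨⟨(-k).toNat, by omega⟩, by simp; omega⟩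
    exact coeff_serNeg _ _
  · simp only [serNeg, AddMonoidAlgebra.coeff_sum, Finsupp.finsetSum_apply, coeff_C_mul_T]
    rw [Finset.sum_eq_zero fun m _ => if_neg ?_]
    · rcases lt_or_ge 0 k with hk | hk
      · exact (h0 k hk).symm
      · exact (hK k (by omega)).symm
    · have := m.2
      omega

end Ser

/-- A monic equation of a curve over the projective line on its two charts, and a number of sheets. -/
structure Base (A₀ : Type u) [CommRing A₀] where
  P : Polynomial (L A₀)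
  n : ℕ
  D : ℕ
  α : ℕ
  β : ℕ
  monic : P.Monic
  deg : P.natDegree = D
  low : ∀ i ≤ D, Low 0 (T ((β : ℤ) * ((D : ℤ) - i)) * P.coeff i)
  high : ∀ i ≤ D, High 0 (T (-((α : ℤ) * ((D : ℤ) - i))) * P.coeff i)

variable {A₀ : Type u} [CommRing A₀] (S : Base A₀)

/-- Indices of bases. -/
abbrev Base.Ix : Type := Fin S.n × Fin S.D

/-- A base together with a splitting type. -/
structure Par (A₀ : Type u) [CommRing A₀] extends Base A₀ where
  d : toBase.Ix → ℤ

variable (Q : Par A₀)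

/-- A bound of the splitting type. -/
def Par.m : ℕ := Finset.univ.sup fun i => (Q.d i).natAbs

/-- A bound of the transition matrices. -/
def Par.M : ℕ := (2 * Fintype.card Q.Ix + 3) * Q.m

/-- A bound of the structure constants. -/
def Par.K : ℕ := 3 * Q.M + Q.α + Q.β

/-- The variables. -/
abbrev Par.Var : Type :=
  (Σ p : Q.Ix × Q.Ix, ↥(Finset.Ioo (Q.d p.1) (Q.d p.2))) ⊕
    ((Bool × Q.Ix × Q.Ix × Q.Ix × Fin (Q.K + 1)) ⊕ (Bool × Bool × Q.Ix × Fin (Q.K + 1)))

section Acc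

variable {Q} {R R' : Type u} [CommRing R] [CommRing R'] (v : Q.Var → R)

/-- The deformation of the transition matrix. -/
noncomputable def Par.Δ : Matrix Q.Ix Q.Ix (L R) :=
  Matrix.of fun i j => ∑ k : ↥(Finset.Ioo (Q.d i) (Q.d j)), C (v (Sum.inl ⟨(i, j), k⟩)) * T (k : ℤ)

/-- The transition matrix. -/
noncomputable def Par.TT : Matrix Q.Ix Q.Ix (L R) := diagT Q.d + Q.Δ v

/-- The inverse transition matrix. -/
noncomputable def Par.TI : Matrix Q.Ix Q.Ix (L R) := triInv Q.d (Q.Δ v)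

noncomputable def Par.c0 (i j k : Q.Ix) : L R := serPos fun m => v (Sum.inr (Sum.inl (false, i, j, k, m)))
noncomputable def Par.c1 (i j k : Q.Ix) : L R := serNeg fun m => v (Sum.inr (Sum.inl (true, i, j, k, m)))
noncomputable def Par.u0 (k : Q.Ix) : L R := serPos fun m => v (Sum.inr (Sum.inr (false, false, k, m)))
noncomputable def Par.u1 (k : Q.Ix) : L R := serNeg fun m => v (Sum.inr (Sum.inr (true, false, k, m)))
noncomputable def Par.x0 (k : Q.Ix) : L R := serPos fun m => v (Sum.inr (Sum.inr (false, true, k, m)))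
noncomputable def Par.x1 (k : Q.Ix) : L R := serNeg fun m => v (Sum.inr (Sum.inr (true, true, k, m)))

theorem Par.upper_Δ : Upper Q.d (Q.Δ v) := fun i j h => by
  rw [Par.Δ, Matrix.of_apply]
  refine Finset.sum_eq_zero fun k _ => absurd (Finset.mem_Ioo.1 k.2) ?_
  intro hk
  omega

theorem Par.TT_mul_TI : Q.TT v * Q.TI v = 1 := (Par.upper_Δ v).inv_mul
theorem Par.TI_mul_TT : Q.TI v * Q.TT v = 1 := (Par.upper_Δ v).mul_inv

theorem Par.d_bound (i : Q.Ix) : -(Q.m : ℤ) ≤ Q.d i ∧ Q.d i ≤ Q.m := by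
  have : (Q.d i).natAbs ≤ Q.m := Finset.le_sup (f := fun i => (Q.d i).natAbs) (Finset.mem_univ i)
  omega

theorem Par.Δ_low (i j : Q.Ix) : Low (-(Q.m : ℤ)) (Q.Δ v i j) := by
  rw [Par.Δ, Matrix.of_apply]
  refine Low.sum fun k _ => ?_
  have := Finset.mem_Ioo.1 k.2
  have := Par.d_bound (Q := Q) i
  simpa using (low_C (v (Sum.inl ⟨(i, j), k⟩))).mul (low_T (R := R) (a := -(Q.m : ℤ)) (m := (k : ℤ)) (by omega))

theorem Par.Δ_high (i j : Q.Ix) : High (Q.m : ℤ) (Q.Δ v i j) := by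
  rw [Par.Δ, Matrix.of_apply]
  refine High.sum fun k _ => ?_
  have := Finset.mem_Ioo.1 k.2
  have := Par.d_bound (Q := Q) j
  simpa using (high_C (v (Sum.inl ⟨(i, j), k⟩))).mul (high_T (R := R) (a := (Q.m : ℤ)) (m := (k : ℤ)) (by omega))

theorem Par.TI_bound (i j : Q.Ix) : Low (-(Q.M : ℤ)) (Q.TI v i j) ∧ High (Q.M : ℤ) (Q.TI v i j) :=
  bound_triInv Par.d_bound (Par.Δ_low v) (Par.Δ_high v) i j

theorem Par.m_le_M : Q.m ≤ Q.M := Nat.le_mul_of_pos_left _ (by omega)

theorem Par.TT_bound (i j : Q.Ix) : Low (-(Q.M : ℤ)) (Q.TT v i j) ∧ High (Q.M : ℤ) (Q.TT v i j) := by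
  have := Par.m_le_M (Q := Q)
  have := Par.d_bound (Q := Q) i
  constructor
  · refine Low.add ?_ ((Par.Δ_low v i j).mono (by omega))
    simp only [diagT, Matrix.diagonal_apply]
    split_ifs
    · exact low_T (by omega)
    · exact low_zero
  · refine High.add ?_ ((Par.Δ_high v i j).mono (by omega))
    simp only [diagT, Matrix.diagonal_apply]
    split_ifs
    · exact high_T (by omega)
    · exact high_zero

variable (g : R →+* R')

theorem Par.map_Δ : (Q.Δ v).map (Lmap g) = Q.Δ (g ∘ v) := by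
  ext i j : 1
  simp [Par.Δ, Lmap_C, Lmap_T]

theorem Par.map_TT : (Q.TT v).map (Lmap g) = Q.TT (g ∘ v) := by
  rw [Par.TT, Matrix.map_add _ (map_add (Lmap g)), map_diagT, Par.map_Δ]; rfl

theorem Par.Lmap_TT (i j : Q.Ix) : Lmap g (Q.TT v i j) = Q.TT (g ∘ v) i j :=
  congrFun (congrFun (Par.map_TT v g) i) j

theorem Par.Lmap_TI (i j : Q.Ix) : Lmap g (Q.TI v i j) = Q.TI (g ∘ v) i j := by
  have h := map_triInv (d := Q.d) g (Q.Δ v)
  rw [Par.map_Δ] at h
  exact congrFun (congrFun h i) j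

theorem Par.Lmap_c0 (i j k : Q.Ix) : Lmap g (Q.c0 v i j k) = Q.c0 (g ∘ v) i j k := Lmap_serPos g _
theorem Par.Lmap_c1 (i j k : Q.Ix) : Lmap g (Q.c1 v i j k) = Q.c1 (g ∘ v) i j k := Lmap_serNeg g _
theorem Par.Lmap_u0 (k : Q.Ix) : Lmap g (Q.u0 v k) = Q.u0 (g ∘ v) k := Lmap_serPos g _
theorem Par.Lmap_u1 (k : Q.Ix) : Lmap g (Q.u1 v k) = Q.u1 (g ∘ v) k := Lmap_serNeg g _
theorem Par.Lmap_x0 (k : Q.Ix) : Lmap g (Q.x0 v k) = Q.x0 (g ∘ v) k := Lmap_serPos g _
theorem Par.Lmap_x1 (k : Q.Ix) : Lmap g (Q.x1 v k) = Q.x1 (g ∘ v) k := Lmap_serNeg g _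

end Acc

section Eqns

variable {Q} {R R' : Type u} [CommRing R] [CommRing R'] [Algebra A₀ R] [Algebra A₀ R'] (v : Q.Var → R)

/-- Multiplication by raw structure constants. -/
noncomputable def Par.rmul (x y : Q.Ix → L R) (k : Q.Ix) : L R := ∑ i, ∑ j, x i * y j * Q.c0 v i j k

/-- The root as coordinates. -/
noncomputable def Par.zc (k : Q.Ix) : L R := T (-(Q.β : ℤ)) * Q.x0 v k

/-- Powers of the root. -/
noncomputable def Par.zpow : ℕ → Q.Ix → L R
  | 0 => Q.u0 v
  | p + 1 => Q.rmul v (Par.zpow p) (Q.zc v)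

/-- Labels of the equations. -/
inductive Par.EqIx (Q : Par A₀) : Type
  | comm (i j k : Q.Ix)
  | assoc (i j l m : Q.Ix)
  | one (j k : Q.Ix)
  | t1 (i j k : Q.Ix)
  | t2 (k : Q.Ix)
  | t3 (k : Q.Ix)
  | root (k : Q.Ix)

/-- The equations. -/
noncomputable def Par.eqn : Q.EqIx → L R
  | .comm i j k => Q.c0 v i j k - Q.c0 v j i k
  | .assoc i j l m => (∑ k, Q.c0 v i j k * Q.c0 v k l m) - ∑ k, Q.c0 v j l k * Q.c0 v i k m
  | .one j k => (∑ i, Q.u0 v i * Q.c0 v i j k) - if j = k then 1 else 0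
  | .t1 i j k => (∑ l, Q.TT v k l * Q.c1 v i j l) - Q.rmul v (fun a => Q.TT v a i) (fun b => Q.TT v b j) k
  | .t2 k => (∑ l, Q.TT v k l * Q.u1 v l) - Q.u0 v k
  | .t3 k => (∑ l, Q.TT v k l * Q.x1 v l) - T (-((Q.α : ℤ) + Q.β)) * Q.x0 v k
  | .root k => ∑ p ∈ Finset.range (Q.D + 1), Lmap (algebraMap A₀ R) (Q.P.coeff p) * Q.zpow v p k

/-- Solutions of the system. -/
def Par.Valid : Prop := ∀ e, Q.eqn v e = 0

theorem Par.Lmap_zpow (g : R →ₐ[A₀] R') : ∀ (p : ℕ) (k : Q.Ix),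
    Lmap g.toRingHom (Q.zpow v p k) = Q.zpow (g ∘ v) p k
  | 0, k => Par.Lmap_u0 v g.toRingHom k
  | p + 1, k => by
    simp only [Par.zpow, Par.rmul, Par.zc, map_sum, map_mul, Par.Lmap_zpow g p, Par.Lmap_x0, Par.Lmap_c0, Lmap_T]
    rfl

theorem Par.Lmap_eqn (g : R →ₐ[A₀] R') (e : Q.EqIx) :
    Lmap g.toRingHom (Q.eqn v e) = Q.eqn (g ∘ v) e := by
  have hP : ∀ x, Lmap g.toRingHom (Lmap (algebraMap A₀ R) x) = Lmap (algebraMap A₀ R') x := fun x => by
    rw [← Lmap_comp]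
    exact congrArg (fun f => Lmap f x) g.comp_algebraMap
  cases e <;>
    simp only [Par.eqn, Par.rmul, map_sub, map_sum, map_mul, Par.Lmap_c0, Par.Lmap_c1, Par.Lmap_u0, Par.Lmap_u1,
      Par.Lmap_x0, Par.Lmap_x1, Par.Lmap_TT, Par.Lmap_zpow, Lmap_T, hP, apply_ite (Lmap g.toRingHom), map_one,
      map_zero] <;> rfl

theorem Par.Valid.map {v : Q.Var → R} (h : Q.Valid v) (g : R →ₐ[A₀] R') : Q.Valid (g ∘ v) := fun e => by
  rw [← Par.Lmap_eqn, h e, map_zero]

end Eqns

/-- The ideal of the equations. -/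
noncomputable def Par.ideal : Ideal (MvPolynomial Q.Var A₀) :=
  Ideal.span (Set.range fun p : Q.EqIx × ℤ => (Q.eqn (R := MvPolynomial Q.Var A₀) MvPolynomial.X p.1).coeff p.2)

/-- The algebra of the system. -/
abbrev Par.O : Type u := MvPolynomial Q.Var A₀ ⧸ Q.ideal

/-- The universal solution. -/
noncomputable def Par.univ : Q.Var → Q.O := fun x => Ideal.Quotient.mkₐ A₀ Q.ideal (MvPolynomial.X x)

theorem Par.valid_univ : Q.Valid Q.univ := fun e => LaurentPolynomial.ext fun k => by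
  rw [show Q.univ = (Ideal.Quotient.mkₐ A₀ Q.ideal) ∘ MvPolynomial.X from rfl, ← Par.Lmap_eqn, coeff_Lmap]
  show Ideal.Quotient.mk Q.ideal _ = (0 : L Q.O).coeff k
  refine (Ideal.Quotient.eq_zero_iff_mem.2 ?_).trans (by simp)
  exact Ideal.subset_span ⟨(e, k), rfl⟩

theorem Par.exists_hom {R : Type u} [CommRing R] [Algebra A₀ R] {v : Q.Var → R} (h : Q.Valid v) :
    ∃ g : Q.O →ₐ[A₀] R, g ∘ Q.univ = v := by
  refine ⟨Ideal.Quotient.liftₐ Q.ideal (MvPolynomial.aeval v) ?_, funext fun x => ?_⟩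
  swap
  · exact (Ideal.Quotient.lift_mk _ _ _).trans (MvPolynomial.aeval_X v x)
  intro a ha
  refine (Ideal.span_le.2 ?_ : Q.ideal ≤ RingHom.ker (MvPolynomial.aeval v).toRingHom) ha
  rintro _ ⟨⟨e, k⟩, rfl⟩
  show MvPolynomial.aeval v ((Q.eqn (R := MvPolynomial Q.Var A₀) MvPolynomial.X e).coeff k) = 0
  have hv : (MvPolynomial.aeval v : MvPolynomial Q.Var A₀ →ₐ[A₀] R) ∘ MvPolynomial.X = v :=
    funext fun x => MvPolynomial.aeval_X v x
  have h1 := Par.Lmap_eqn (Q := Q) (MvPolynomial.X : Q.Var → MvPolynomial Q.Var A₀) (MvPolynomial.aeval v) e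
  rw [hv, h e] at h1
  have h2 := congrArg (fun x : L R => x.coeff k) h1
  simpa [coeff_Lmap] using h2

theorem Par.hom_ext {R : Type u} [CommRing R] [Algebra A₀ R] {f g : Q.O →ₐ[A₀] R}
    (h : f ∘ Q.univ = g ∘ Q.univ) : f = g :=
  Ideal.Quotient.algHom_ext _ (MvPolynomial.algHom_ext fun x => congrFun h x)

section Alg

variable {Q} {R : Type u} [CommRing R] [Algebra A₀ R] {v : Q.Var → R} (h : Q.Valid v)

/-- The structure constants of a solution. -/
noncomputable def Par.Valid.tab : Tab (L R) Q.Ix where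
  c := Q.c0 v
  u := Q.u0 v
  comm i j k := sub_eq_zero.1 (h (.comm i j k))
  assoc i j l m := sub_eq_zero.1 (h (.assoc i j l m))
  one j k := sub_eq_zero.1 (h (.one j k))

/-- The root. -/
noncomputable def Par.Valid.z : h.tab.Alg := h.tab.vec (Q.zc v)

theorem Par.Valid.coord_z_pow : ∀ p : ℕ, h.tab.coord (h.z ^ p) = Q.zpow v p
  | 0 => by rw [pow_zero]; rfl
  | p + 1 => funext fun k => by
    rw [pow_succ, Tab.coord_mul, Par.Valid.coord_z_pow p]
    rfl

theorem Par.Valid.root : Polynomial.aeval h.z (Q.P.map (Lmap (algebraMap A₀ R))) = 0 := by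
  refine h.tab.ext fun k => ?_
  rw [Polynomial.aeval_eq_sum_range' (n := Q.D + 1)
    (by have := Polynomial.natDegree_map_le (f := Lmap (algebraMap A₀ R)) (p := Q.P); rw [Q.deg] at this; omega)]
  simp only [Polynomial.coeff_map, map_sum, map_smul, Finset.sum_apply, Pi.smul_apply, smul_eq_mul,
    h.coord_z_pow, map_zero, Pi.zero_apply]
  exact h (.root k)

end Alg

end Groth.Agent.PBC51.Loop
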