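import Mathlib.Algebra.Algebra.Pi
import Mathlib.Algebra.BigOperators.Pi
import Mathlib.LinearAlgebra.Pi
import Mathlib.RingTheory.Finiteness.Basic
import Mathlib.RingTheory.Finiteness.Cardinality
import Mathlib.Tactic.Ring

/-!
Commutative algebras given by structure constants.
-/

set_option autoImplicit false
set_option linter.unusedSectionVars false

namespace Groth.Agent.PBC51.Loop

universe u

variable {P Q : Type u} [CommRing P] [CommRing Q] {ι : Type} [Fintype ι] [DecidableEq ι]

/-- Structure constants satisfying the axioms of commutative algebras. -/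
structure Tab (P : Type u) [CommRing P] (ι : Type) [Fintype ι] [DecidableEq ι] where
  c : ι → ι → ι → P
  u : ι → P
  comm : ∀ i j k, c i j k = c j i k
  assoc : ∀ i j l m, ∑ k, c i j k * c k l m = ∑ k, c j l k * c i k m
  one : ∀ j k, ∑ i, u i * c i j k = if j = k then 1 else 0

/-- The algebra of structure constants. -/
def Tab.Alg (_τ : Tab P ι) : Type u := ι → P

variable (τ : Tab P ι)

namespace Tab

instance : AddCommGroup τ.Alg := inferInstanceAs (AddCommGroup (ι → P))
instance : Module P τ.Alg := inferInstanceAs (Module P (ι → P))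

/-- Coordinates. -/
def coord : τ.Alg ≃ₗ[P] (ι → P) := LinearEquiv.refl P (ι → P)

theorem ext {x y : τ.Alg} (h : ∀ k, τ.coord x k = τ.coord y k) : x = y := funext h

/-- The element with given coordinates. -/
abbrev vec (a : ι → P) : τ.Alg := τ.coord.symm a

instance : Mul τ.Alg := ⟨fun x y => τ.vec fun k => ∑ i, ∑ j, τ.coord x i * τ.coord y j * τ.c i j k⟩
instance : One τ.Alg := ⟨τ.vec τ.u⟩

theorem coord_mul (x y : τ.Alg) (k : ι) :
    τ.coord (x * y) k = ∑ i, ∑ j, τ.coord x i * τ.coord y j * τ.c i j k := rfl

theorem coord_one : τ.coord (1 : τ.Alg) = τ.u := rfl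

protected theorem mul_comm' (x y : τ.Alg) : x * y = y * x := τ.ext fun k => by
  rw [coord_mul, coord_mul, Finset.sum_comm]
  exact Finset.sum_congr rfl fun i _ => Finset.sum_congr rfl fun j _ => by rw [τ.comm]; ring

protected theorem one_mul' (x : τ.Alg) : 1 * x = x := τ.ext fun k => by
  rw [coord_mul, coord_one, Finset.sum_comm]
  have : ∀ j, ∑ i, τ.u i * τ.coord x j * τ.c i j k = τ.coord x j * if j = k then 1 else 0 := fun j => by
    rw [← τ.one j k, Finset.mul_sum]
    exact Finset.sum_congr rfl fun i _ => by ring
  simp [this]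

protected theorem left_distrib' (x y z : τ.Alg) : x * (y + z) = x * y + x * z := τ.ext fun k => by
  simp only [map_add, Pi.add_apply, coord_mul, add_mul, mul_add, Finset.sum_add_distrib]

protected theorem smul_mul' (a : P) (x y : τ.Alg) : (a • x) * y = a • (x * y) := τ.ext fun k => by
  simp only [map_smul, Pi.smul_apply, smul_eq_mul, coord_mul, Finset.mul_sum]
  exact Finset.sum_congr rfl fun i _ => Finset.sum_congr rfl fun j _ => by ring

protected theorem mul_assoc' (x y z : τ.Alg) : x * y * z = x * (y * z) := τ.ext fun m => by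
  simp only [coord_mul, Finset.sum_mul, Finset.mul_sum]
  calc ∑ k, ∑ l, ∑ i, ∑ j, τ.coord x i * τ.coord y j * τ.c i j k * τ.coord z l * τ.c k l m
      = ∑ i, ∑ j, ∑ l, τ.coord x i * τ.coord y j * τ.coord z l * ∑ k, τ.c i j k * τ.c k l m := by
        simp only [Finset.mul_sum]
        rw [Finset.sum_comm_cycle]
        refine Finset.sum_congr rfl fun i _ => ?_
        rw [Finset.sum_comm_cycle]
        exact Finset.sum_congr rfl fun j _ => Finset.sum_comm.trans
          (Finset.sum_congr rfl fun l _ => Finset.sum_congr rfl fun k _ => by ring)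
    _ = _ := by
        refine Finset.sum_congr rfl fun i _ => ?_
        simp only [τ.assoc, Finset.mul_sum]
        refine (Finset.sum_congr rfl fun j _ => Finset.sum_comm).trans ?_
        rw [Finset.sum_comm]
        exact Finset.sum_congr rfl fun k _ => Finset.sum_congr rfl fun j _ =>
          Finset.sum_congr rfl fun l _ => by ring

noncomputable instance : CommRing τ.Alg :=
  { (inferInstance : AddCommGroup τ.Alg), (inferInstance : Mul τ.Alg), (inferInstance : One τ.Alg) with
    mul_assoc := τ.mul_assoc'
    mul_comm := τ.mul_comm'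
    one_mul := τ.one_mul'
    mul_one := fun x => (τ.mul_comm' x 1).trans (τ.one_mul' x)
    left_distrib := τ.left_distrib'
    right_distrib := fun x y z => by
      rw [τ.mul_comm', τ.left_distrib', τ.mul_comm' z x, τ.mul_comm' z y]
    zero_mul := fun x => τ.ext fun k => by simp [coord_mul]
    mul_zero := fun x => τ.ext fun k => by simp [coord_mul] }

noncomputable instance : Algebra P τ.Alg :=
  Algebra.ofModule τ.smul_mul' fun a x y => by
    rw [τ.mul_comm', τ.smul_mul', τ.mul_comm' y x]

theorem coord_algebraMap (a : P) (k : ι) : τ.coord (algebraMap P τ.Alg a) k = a * τ.u k := by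
  rw [Algebra.algebraMap_eq_smul_one, map_smul]; rfl

instance : Module.Finite P τ.Alg := Module.Finite.equiv τ.coord.symm

/-- The basis vectors. -/
abbrev e (i : ι) : τ.Alg := τ.vec (Pi.single i 1)

theorem coord_e_mul_e (i j k : ι) : τ.coord (τ.e i * τ.e j) k = τ.c i j k := by
  simp [coord_mul, Pi.single_apply]

theorem eq_sum_e (x : τ.Alg) : x = ∑ i, τ.coord x i • τ.e i := τ.ext fun k => by
  simp [Pi.single_apply]

/-- Change of scalars. -/
def map (f : P →+* Q) : Tab Q ι where
  c i j k := f (τ.c i j k)
  u i := f (τ.u i)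
  comm i j k := congrArg f (τ.comm i j k)
  assoc i j l m := by simp only [← map_mul, ← map_sum, τ.assoc]
  one j k := by
    simp only [← map_mul, ← map_sum, τ.one]
    split_ifs <;> simp

/-- The map of algebras. -/
noncomputable def mapHom (f : P →+* Q) : τ.Alg →+* (τ.map f).Alg where
  toFun x := (τ.map f).vec fun k => f (τ.coord x k)
  map_one' := (τ.map f).ext fun k => rfl
  map_mul' x y := (τ.map f).ext fun k => by
    show f (τ.coord (x * y) k) = _
    simp only [coord_mul, map_sum, map_mul]
    rfl
  map_zero' := (τ.map f).ext fun k => map_zero f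
  map_add' x y := (τ.map f).ext fun k => map_add f (τ.coord x k) (τ.coord y k)

theorem coord_mapHom (f : P →+* Q) (x : τ.Alg) (k : ι) :
    (τ.map f).coord (τ.mapHom f x) k = f (τ.coord x k) := rfl

theorem mapHom_algebraMap (f : P →+* Q) (a : P) :
    τ.mapHom f (algebraMap P τ.Alg a) = algebraMap Q (τ.map f).Alg (f a) := (τ.map f).ext fun k => by
  rw [coord_mapHom, coord_algebraMap, coord_algebraMap, map_mul]
  rfl

/-- A homomorphism from the images of the basis. -/
noncomputable def lift [Algebra P Q] (r : ι → Q) (hmul : ∀ i j, r i * r j = ∑ k, algebraMap P Q (τ.c i j k) * r k)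
    (hone : ∑ i, algebraMap P Q (τ.u i) * r i = 1) : τ.Alg →ₐ[P] Q :=
  AlgHom.ofLinearMap ((Fintype.linearCombination P r).comp τ.coord.toLinearMap)
    (by simpa [Fintype.linearCombination_apply, Algebra.smul_def, coord_one] using hone)
    fun x y => by
      simp only [LinearMap.comp_apply, LinearEquiv.coe_coe, Fintype.linearCombination_apply, Algebra.smul_def,
        coord_mul, map_sum, map_mul, Finset.sum_mul]
      rw [Finset.sum_comm]
      refine Finset.sum_congr rfl fun i _ => ?_
      rw [Finset.sum_comm, Finset.mul_sum]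
      refine Finset.sum_congr rfl fun j _ => ?_
      calc ∑ k, algebraMap P Q (τ.coord x i) * algebraMap P Q (τ.coord y j) * algebraMap P Q (τ.c i j k) * r k
          = algebraMap P Q (τ.coord x i) * algebraMap P Q (τ.coord y j) *
            ∑ k, algebraMap P Q (τ.c i j k) * r k := by
            rw [Finset.mul_sum]; exact Finset.sum_congr rfl fun k _ => by ring
        _ = _ := by rw [← hmul]; ring

end Tab

end Groth.Agent.PBC51.Loop
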